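import Cfsg.Agent.Lib.Weyl.Enum
import Mathlib.LinearAlgebra.Pi
import Mathlib.LinearAlgebra.StdBasis
import Mathlib.Algebra.Module.LinearMap.End
import Mathlib.Data.List.OfFn

/-!
The integral reflection representation of a Coxeter group given by a Cartan matrix, and the lower
bound for the order from orbits of weight vectors.
-/

set_option autoImplicit false

namespace CfsgLib.Weyl

variable {n : ℕ} (C : List (List ℤ))

/-- An entry of the Cartan matrix. -/
def cmat (i k : ℕ) : ℤ := (C.getD i []).getD k 0

/-- The reflection `i` acting on a list of coordinates. -/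
def act (n : ℕ) (i : ℕ) (L : List ℤ) : List ℤ :=
  (List.range n).map fun k => L.getD k 0 - L.getD i 0 * cmat C i k

/-- A word acting on a list of coordinates, rightmost letter first. -/
def actWord (w : List (Fin n)) (L : List ℤ) : List ℤ := w.foldr (fun i L => act C n i.val L) L

/-- Iterating the action of a word. -/
def actPow (w : List (Fin n)) : ℕ → List ℤ → List ℤ
  | 0, L => L
  | m + 1, L => actWord C w (actPow w m L)

/-- A basis vector as a list. -/
def unitList (n k : ℕ) : List ℤ := (List.range n).map fun j => if j = k then 1 else 0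

/-- The reflection `i` as a linear map. -/
def refl (i : Fin n) : Module.End ℤ (Fin n → ℤ) where
  toFun v := fun k => v k - v i * cmat C i k
  map_add' u v := by funext k; simp only [Pi.add_apply]; ring
  map_smul' c v := by funext k; simp only [Pi.smul_apply, smul_eq_mul, RingHom.id_apply]; ring

theorem ofFn_getD (v : Fin n → ℤ) (k : Fin n) : (List.ofFn v).getD k.val 0 = v k := by
  simp [List.getD_eq_getElem?_getD]

theorem ofFn_refl (i : Fin n) (v : Fin n → ℤ) :
    List.ofFn (refl C i v) = act C n i (List.ofFn v) := by
  apply List.ext_getElem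
  · simp [act]
  · intro k h1 h2
    have hk : k < n := by simpa using h1
    simp only [act, List.getElem_ofFn, List.getElem_map, List.getElem_range]
    rw [ofFn_getD v i, show (List.ofFn v).getD k 0 = v ⟨k, hk⟩ from ofFn_getD v ⟨k, hk⟩]
    rfl

theorem ofFn_word (w : List (Fin n)) (v : Fin n → ℤ) :
    List.ofFn ((w.map (refl C)).prod v) = actWord C w (List.ofFn v) := by
  induction w with
  | nil => simp [actWord]
  | cons i w ih =>
    rw [List.map_cons, List.prod_cons, Module.End.mul_apply, ofFn_refl, ih]
    rfl

theorem ofFn_pow (w : List (Fin n)) (m : ℕ) (v : Fin n → ℤ) :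
    List.ofFn (((w.map (refl C)).prod ^ m) v) = actPow C w m (List.ofFn v) := by
  induction m with
  | zero => simp [actPow]
  | succ m ih => rw [pow_succ', Module.End.mul_apply, ofFn_word, ih]; rfl

theorem ofFn_single (k : Fin n) : List.ofFn (Pi.single k (1 : ℤ)) = unitList n k := by
  apply List.ext_getElem
  · simp [unitList]
  · intro j h1 h2
    simp [unitList, Pi.single_apply, Fin.ext_iff]

theorem pow_eq_one_iff_actPow (w : List (Fin n)) (m : ℕ) :
    (w.map (refl C)).prod ^ m = 1 ↔ ∀ k : Fin n, actPow C w m (unitList n k) = unitList n k := by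
  constructor
  · intro h k
    rw [← ofFn_single, ← ofFn_pow, h]
    rfl
  · intro h
    refine (Pi.basisFun ℤ (Fin n)).ext fun k => ?_
    apply List.ofFn_injective
    rw [Pi.basisFun_apply, ofFn_pow, ofFn_single, h k, Module.End.one_apply, ofFn_single]

/-- The test that the Cartan matrix gives a representation of the Coxeter group. -/
def repTest (M : CoxeterMatrix (Fin n)) : Bool :=
  decide (∀ i j k : Fin n, actPow C [i, j] (M i j) (unitList n k) = unitList n k)

variable {C} {M : CoxeterMatrix (Fin n)}

theorem repTest_liftable (h : repTest C M = true) : CoxeterMatrix.IsLiftable M (refl C) := by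
  intro i j
  simp only [repTest, decide_eq_true_eq] at h
  have := (pow_eq_one_iff_actPow C [i, j] (M i j)).mpr (h i j)
  simpa using this

/-- The representation. -/
def rep (h : repTest C M = true) : M.Group →* (Module.End ℤ (Fin n → ℤ))ˣ :=
  (M.toCoxeterSystem.lift ⟨refl C, repTest_liftable h⟩).toHomUnits

theorem rep_simple (h : repTest C M = true) (i : Fin n) :
    ((rep h (M.simple i) : (Module.End ℤ (Fin n → ℤ))ˣ) : Module.End ℤ (Fin n → ℤ)) = refl C i :=
  M.toCoxeterSystem.lift_apply_simple (repTest_liftable h) i

theorem rep_wp (h : repTest C M = true) (w : List (Fin n)) :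
    ((rep h (wp M w) : (Module.End ℤ (Fin n → ℤ))ˣ) : Module.End ℤ (Fin n → ℤ)) =
      (w.map (refl C)).prod := by
  induction w with
  | nil => simp [wp]
  | cons i w ih =>
    rw [show wp M (i :: w) = M.simple i * wp M w by simp [wp], map_mul, Units.val_mul, rep_simple,
      ih]
    simp

variable (C) in
/-- The test for the vectors of a table. -/
def vecTest [NeZero n] (T : List (Node n)) (J' : List (Fin n)) : Bool :=
  decide ((vec T 0).length = n ∧ ∀ j ∈ J', act C n j.val (vec T 0) = vec T 0) &&
  (List.range T.length).all (fun k => decide (k = 0 ∨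
      vec T k = act C n (let0 T k).val (vec T (par0 T k)))) &&
  decide ((List.range T.length).map (vec T)).Nodup

variable [NeZero n] {T : List (Node n)} {J J' : List (Fin n)}

theorem card_map_step (hr : repTest C M = true) (hc : cosetTest T M J J' = true)
    (hv : vecTest C T J' = true) [Finite (par M J)] :
    T.length * Nat.card ((par M J').map (rep hr)) ≤ Nat.card ((par M J).map (rep hr)) := by
  simp only [vecTest, Bool.and_eq_true, decide_eq_true_eq, List.all_eq_true, List.mem_range] at hv
  obtain ⟨⟨⟨hlen, hfix⟩, hrec⟩, hnd⟩ := hv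
  set v0 : Fin n → ℤ := fun k => (vec T 0).getD k 0 with hv0
  have hv0' : List.ofFn v0 = vec T 0 := by
    apply List.ext_getElem
    · simp [hlen]
    · intro k h1 h2
      simp [hv0, List.getD_eq_getElem?_getD, List.getElem?_eq_getElem h2]
  have hvec : ∀ k < T.length, List.ofFn (((rep hr (wp M (word T k)))⁻¹ :
      (Module.End ℤ (Fin n → ℤ))ˣ).1 v0) = vec T k := by
    intro k
    induction k using Nat.strong_induction_on with
    | _ k ih =>
      intro hk
      by_cases h0 : k = 0
      · subst h0
        rw [(cosetTest_base hc).2.1, wp_nil, map_one, inv_one, Units.val_one, Module.End.one_apply]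
        exact hv0'
      · obtain ⟨hp, -, hw, -, -⟩ := cosetTest_tree hc k hk h0
        have hinv : (M.simple (let0 T k))⁻¹ = M.simple (let0 T k) :=
          M.toCoxeterSystem.inv_simple _
        rw [hw, wp_append, show wp M [let0 T k] = M.simple (let0 T k) by simp [wp], map_mul,
          mul_inv_rev, Units.val_mul, Module.End.mul_apply, ← map_inv _ (M.simple _), hinv,
          rep_simple, ofFn_refl, ih _ hp (hp.trans hk)]
        exact ((hrec k hk).resolve_left h0).symm
  have hstab : ∀ u ∈ par M J', (rep hr u).1 v0 = v0 := by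
    intro u hu
    induction hu using Subgroup.closure_induction with
    | mem g hg =>
      obtain ⟨j, hj, rfl⟩ := hg
      rw [rep_simple]
      apply List.ofFn_injective
      rw [ofFn_refl, hv0']
      exact hfix j hj
    | one => simp
    | mul x y _ _ hx hy => rw [map_mul, Units.val_mul, Module.End.mul_apply, hy, hx]
    | inv x _ hx =>
      calc (rep hr x⁻¹).1 v0 = (rep hr x⁻¹).1 ((rep hr x).1 v0) := by rw [hx]
        _ = (rep hr (x⁻¹ * x)).1 v0 := by rw [map_mul, Units.val_mul, Module.End.mul_apply]
        _ = v0 := by simp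
  have hle : par M J' ≤ par M J :=
    Subgroup.closure_mono fun g ⟨j, hj, e⟩ => ⟨j, (cosetTest_base hc).2.2 j hj, e⟩
  have hword : ∀ k < T.length, wp M (word T k) ∈ par M J := by
    intro k
    induction k using Nat.strong_induction_on with
    | _ k ih =>
      intro hk
      by_cases h0 : k = 0
      · rw [h0, (cosetTest_base hc).2.1, wp_nil]; exact one_mem _
      · obtain ⟨hp, hg, hwd, -, -⟩ := cosetTest_tree hc k hk h0
        rw [hwd, wp_append]
        refine mul_mem (ih _ hp (hp.trans hk)) (wp_mem_par ?_)
        simpa using hg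
  have : Finite ((par M J).map (rep hr)) :=
    Finite.of_surjective (fun x : par M J => (⟨rep hr x, ⟨x, x.2, rfl⟩⟩ : (par M J).map (rep hr)))
      (by rintro ⟨_, x, hx, rfl⟩; exact ⟨⟨x, hx⟩, rfl⟩)
  let f : Fin T.length × (par M J').map (rep hr) → (par M J).map (rep hr) := fun p =>
    ⟨p.2.1 * rep hr (wp M (word T p.1.1)),
      mul_mem (Subgroup.map_mono hle p.2.2) ⟨_, hword _ p.1.2, rfl⟩⟩
  have hf : Function.Injective f := by
    rintro ⟨k, ⟨_, u, hu, rfl⟩⟩ ⟨l, ⟨_, u', hu', rfl⟩⟩ he
    have he' : rep hr u * rep hr (wp M (word T k.1)) = rep hr u' * rep hr (wp M (word T l.1)) :=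
      congrArg Subtype.val he
    have hkl : k = l := by
      have hs : ∀ x ∈ par M J', ((rep hr x)⁻¹ : (Module.End ℤ (Fin n → ℤ))ˣ).1 v0 = v0 := by
        intro x hx
        rw [← map_inv]
        exact hstab _ (inv_mem hx)
      have h1 := congrArg (fun a : (Module.End ℤ (Fin n → ℤ))ˣ => (a⁻¹).1 v0) he'
      simp only [mul_inv_rev, Units.val_mul, Module.End.mul_apply, hs u hu, hs u' hu'] at h1
      have h2 := congrArg List.ofFn h1
      rw [hvec k k.2, hvec l l.2] at h2
      have hk' : k.val < ((List.range T.length).map (vec T)).length := by simp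
      have hl' : l.val < ((List.range T.length).map (vec T)).length := by simp
      exact Fin.ext ((hnd.getElem_inj_iff (hi := hk') (hj := hl')).mp (by simpa using h2))
    subst hkl
    exact Prod.ext rfl (Subtype.ext (mul_right_cancel he'))
  have h := Nat.card_le_card_of_injective f hf
  rwa [Nat.card_prod, Nat.card_eq_fintype_card, Fintype.card_fin] at h

/-- The statement carried along a chain of parabolic subgroups: order `N`, faithfully
represented. -/
def ChainOK (hr : repTest C M = true) (J : List (Fin n)) (N : ℕ) : Prop :=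
  Finite (par M J) ∧ Nat.card (par M J) ≤ N ∧ N ≤ Nat.card ((par M J).map (rep hr))

theorem chainOK_nil (hr : repTest C M = true) : ChainOK hr [] 1 := by
  unfold ChainOK
  rw [par_nil]
  refine ⟨inferInstance, by simp, ?_⟩
  simp

theorem chainOK_step {hr : repTest C M = true} {N : ℕ} (h : ChainOK hr J' N)
    (hc : cosetTest T M J J' = true) (hv : vecTest C T J' = true) :
    ChainOK hr J (T.length * N) := by
  obtain ⟨hf, hle, hge⟩ := h
  obtain ⟨hf', hle'⟩ := finite_card_par hc N hf hle
  exact ⟨hf', hle', (Nat.mul_le_mul_left _ hge).trans (card_map_step hr hc hv)⟩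

theorem par_eq_top (hJ : ∀ i, i ∈ J) : par M J = ⊤ := by
  refine eq_top_iff.mpr fun w hwtop => ?_
  clear hwtop
  induction w using M.toCoxeterSystem.simple_induction_left with
  | one => exact one_mem _
  | mul_simple_left w i hw => exact mul_mem (Subgroup.subset_closure ⟨i, hJ i, rfl⟩) hw

theorem chainOK_top {hr : repTest C M = true} {N : ℕ} (h : ChainOK hr J N) (hJ : ∀ i, i ∈ J) :
    Finite M.Group ∧ Nat.card M.Group = N ∧ Function.Injective (rep hr) := by
  obtain ⟨hf, hle, hge⟩ := h
  rw [par_eq_top hJ] at hf hle hge
  rw [Nat.card_congr Subgroup.topEquiv.toEquiv] at hle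
  have : Finite M.Group := Finite.of_equiv _ Subgroup.topEquiv.toEquiv
  rw [← MonoidHom.range_eq_map] at hge
  have hsurj : Function.Surjective (rep hr).rangeRestrict := (rep hr).rangeRestrict_surjective
  have h2 : Nat.card (rep hr).range ≤ Nat.card M.Group := Nat.card_le_card_of_surjective _ hsurj
  refine ⟨this, le_antisymm hle (hge.trans h2), ?_⟩
  have hb : Function.Bijective (rep hr).rangeRestrict :=
    (Nat.bijective_iff_surjective_and_card _).mpr ⟨hsurj, le_antisymm (hle.trans hge) h2⟩
  intro a b e
  exact hb.1 (Subtype.ext e)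

variable (C) in
/-- The test that a word has order `h` in the representation. -/
def orderTest (w : List (Fin n)) (h : ℕ) : Bool :=
  decide (0 < h ∧ (∀ k : Fin n, actPow C w h (unitList n k) = unitList n k)) &&
  (List.range h).all fun m => decide (m = 0 ∨ ∃ k : Fin n, actPow C w m (unitList n k) ≠ unitList n k)

omit [NeZero n] in
theorem orderOf_wp {hr : repTest C M = true} (hinj : Function.Injective (rep hr))
    (w : List (Fin n)) (h : ℕ) (ht : orderTest C w h = true) : orderOf (wp M w) = h := by
  simp only [orderTest, Bool.and_eq_true, decide_eq_true_eq, List.all_eq_true, List.mem_range] at ht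
  obtain ⟨⟨h0, h1⟩, h2⟩ := ht
  rw [← orderOf_injective (rep hr) hinj, ← orderOf_units, rep_wp, orderOf_eq_iff h0]
  refine ⟨(pow_eq_one_iff_actPow C w h).mpr h1, fun m hm hm0 => ?_⟩
  rw [Ne, pow_eq_one_iff_actPow]
  intro hall
  rcases h2 m hm with rfl | ⟨k, hk⟩
  · exact Nat.lt_irrefl 0 hm0
  · exact hk (hall k)

end CfsgLib.Weyl
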