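import Cfsg.Agent.Lib.Weyl.Rep
import Mathlib.GroupTheory.Coxeter.Matrix

/-!
Certificates for the Coxeter group of type E7: order, faithful integral representation.
-/

set_option autoImplicit false

namespace CfsgLib.Weyl.E7

/-- The Cartan matrix of type E7. -/
def cartan : List (List ℤ) := [[2, 0, -1, 0, 0, 0, 0], [0, 2, 0, -1, 0, 0, 0], [-1, 0, 2, -1, 0, 0, 0], [0, -1, -1, 2, -1, 0, 0], [0, 0, 0, -1, 2, -1, 0], [0, 0, 0, 0, -1, 2, -1], [0, 0, 0, 0, 0, -1, 2]]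

theorem cartan_repTest : repTest cartan CoxeterMatrix.E₇ = true := by decide +kernel

/-- Cosets of the parabolic subgroup of the first 0 nodes in that of the first 1. -/
def table1 : List (Node 7) := [
  (0, 0, [], [1, 0, 0, 0, 0, 0, 0], [(1, [], 0), (0, [], 0), (0, [], 0), (0, [], 0), (0, [], 0), (0, [], 0), (0, [], 0)]),
  (0, 0, [0], [-1, 0, 1, 0, 0, 0, 0], [(0, [], 0), (0, [], 0), (0, [], 0), (0, [], 0), (0, [], 0), (0, [], 0), (0, [], 0)])]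

theorem table1_cosetTest : cosetTest table1 CoxeterMatrix.E₇ [0] [] = true := by
  decide +kernel

theorem table1_vecTest : vecTest cartan table1 [] = true := by
  decide +kernel

/-- Cosets of the parabolic subgroup of the first 1 nodes in that of the first 2. -/
def table2 : List (Node 7) := [
  (0, 0, [], [0, 1, 0, 0, 0, 0, 0], [(0, [0], 0), (1, [], 0), (0, [], 0), (0, [], 0), (0, [], 0), (0, [], 0), (0, [], 0)]),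
  (0, 1, [1], [0, -1, 0, 1, 0, 0, 0], [(1, [0], 1), (0, [], 1), (0, [], 0), (0, [], 0), (0, [], 0), (0, [], 0), (0, [], 0)])]

theorem table2_cosetTest : cosetTest table2 CoxeterMatrix.E₇ [0, 1] [0] = true := by
  decide +kernel

theorem table2_vecTest : vecTest cartan table2 [0] = true := by
  decide +kernel

/-- Cosets of the parabolic subgroup of the first 2 nodes in that of the first 3. -/
def table3 : List (Node 7) := [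
  (0, 0, [], [0, 0, 1, 0, 0, 0, 0], [(0, [0], 0), (0, [1], 0), (1, [], 0), (0, [], 0), (0, [], 0), (0, [], 0), (0, [], 0)]),
  (0, 2, [2], [1, 0, -1, 1, 0, 0, 0], [(2, [], 2), (1, [1], 2), (0, [], 2), (0, [], 0), (0, [], 0), (0, [], 0), (0, [], 0)]),
  (1, 0, [2, 0], [-1, 0, 0, 1, 0, 0, 0], [(1, [], 0), (2, [1], 0), (2, [0], 0), (0, [], 0), (0, [], 0), (0, [], 0), (0, [], 0)])]

theorem table3_cosetTest : cosetTest table3 CoxeterMatrix.E₇ [0, 1, 2] [0, 1] = true := by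
  decide +kernel

theorem table3_vecTest : vecTest cartan table3 [0, 1] = true := by
  decide +kernel

/-- Cosets of the parabolic subgroup of the first 3 nodes in that of the first 4. -/
def table4 : List (Node 7) := [
  (0, 0, [], [0, 0, 0, 1, 0, 0, 0], [(0, [0], 0), (0, [1], 0), (0, [2], 0), (1, [], 0), (0, [], 0), (0, [], 0), (0, [], 0)]),
  (0, 3, [3], [0, 1, 1, -1, 1, 0, 0], [(1, [0], 3), (2, [], 3), (3, [], 3), (0, [], 3), (0, [], 0), (0, [], 0), (0, [], 0)]),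
  (1, 1, [3, 1], [0, -1, 1, 0, 1, 0, 0], [(2, [0], 1), (1, [], 1), (4, [], 1), (2, [1], 1), (0, [], 0), (0, [], 0), (0, [], 0)]),
  (1, 2, [3, 2], [1, 1, -1, 0, 1, 0, 0], [(5, [], 2), (4, [], 2), (1, [], 2), (3, [2], 2), (0, [], 0), (0, [], 0), (0, [], 0)]),
  (2, 2, [3, 1, 2], [1, -1, -1, 1, 1, 0, 0], [(6, [], 2), (3, [], 2), (2, [], 2), (7, [], 2), (0, [], 0), (0, [], 0), (0, [], 0)]),
  (3, 0, [3, 2, 0], [-1, 1, 0, 0, 1, 0, 0], [(3, [], 0), (6, [], 0), (5, [0], 0), (5, [2], 0), (0, [], 0), (0, [], 0), (0, [], 0)]),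
  (4, 0, [3, 1, 2, 0], [-1, -1, 0, 1, 1, 0, 0], [(4, [], 0), (5, [], 0), (6, [0], 0), (8, [], 0), (0, [], 0), (0, [], 0), (0, [], 0)]),
  (4, 3, [3, 1, 2, 3], [1, 0, 0, -1, 2, 0, 0], [(8, [], 3), (7, [2], 3), (7, [1], 3), (4, [], 3), (0, [], 0), (0, [], 0), (0, [], 0)]),
  (6, 3, [3, 1, 2, 0, 3], [-1, 0, 1, -1, 2, 0, 0], [(7, [], 3), (8, [2], 3), (9, [], 3), (6, [], 3), (0, [], 0), (0, [], 0), (0, [], 0)]),
  (8, 2, [3, 1, 2, 0, 3, 2], [0, 0, -1, 0, 2, 0, 0], [(9, [1], 2), (9, [2], 2), (8, [], 2), (9, [0], 2), (0, [], 0), (0, [], 0), (0, [], 0)])]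

theorem table4_cosetTest : cosetTest table4 CoxeterMatrix.E₇ [0, 1, 2, 3] [0, 1, 2] = true := by
  decide +kernel

theorem table4_vecTest : vecTest cartan table4 [0, 1, 2] = true := by
  decide +kernel

/-- Cosets of the parabolic subgroup of the first 4 nodes in that of the first 5. -/
def table5 : List (Node 7) := [
  (0, 0, [], [0, 0, 0, 0, 1, 0, 0], [(0, [0], 0), (0, [1], 0), (0, [2], 0), (0, [3], 0), (1, [], 0), (0, [], 0), (0, [], 0)]),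
  (0, 4, [4], [0, 0, 0, 1, -1, 1, 0], [(1, [0], 4), (1, [1], 4), (1, [2], 4), (2, [], 4), (0, [], 4), (0, [], 0), (0, [], 0)]),
  (1, 3, [4, 3], [0, 1, 1, -1, 0, 1, 0], [(2, [0], 3), (3, [], 3), (4, [], 3), (1, [], 3), (2, [3], 3), (0, [], 0), (0, [], 0)]),
  (2, 1, [4, 3, 1], [0, -1, 1, 0, 0, 1, 0], [(3, [0], 1), (2, [], 1), (5, [], 1), (3, [1], 1), (3, [3], 1), (0, [], 0), (0, [], 0)]),
  (2, 2, [4, 3, 2], [1, 1, -1, 0, 0, 1, 0], [(6, [], 2), (5, [], 2), (2, [], 2), (4, [2], 2), (4, [3], 2), (0, [], 0), (0, [], 0)]),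
  (3, 2, [4, 3, 1, 2], [1, -1, -1, 1, 0, 1, 0], [(7, [], 2), (4, [], 2), (3, [], 2), (8, [], 2), (5, [3], 2), (0, [], 0), (0, [], 0)]),
  (4, 0, [4, 3, 2, 0], [-1, 1, 0, 0, 0, 1, 0], [(4, [], 0), (7, [], 0), (6, [0], 0), (6, [2], 0), (6, [3], 0), (0, [], 0), (0, [], 0)]),
  (5, 0, [4, 3, 1, 2, 0], [-1, -1, 0, 1, 0, 1, 0], [(5, [], 0), (6, [], 0), (7, [0], 0), (9, [], 0), (7, [3], 0), (0, [], 0), (0, [], 0)]),
  (5, 3, [4, 3, 1, 2, 3], [1, 0, 0, -1, 1, 1, 0], [(9, [], 3), (8, [2], 3), (8, [1], 3), (5, [], 3), (10, [], 3), (0, [], 0), (0, [], 0)]),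
  (7, 3, [4, 3, 1, 2, 0, 3], [-1, 0, 1, -1, 1, 1, 0], [(8, [], 3), (9, [2], 3), (11, [], 3), (7, [], 3), (12, [], 3), (0, [], 0), (0, [], 0)]),
  (8, 4, [4, 3, 1, 2, 3, 4], [1, 0, 0, 0, -1, 2, 0], [(12, [], 4), (10, [2], 4), (10, [1], 4), (10, [3], 4), (8, [], 4), (0, [], 0), (0, [], 0)]),
  (9, 2, [4, 3, 1, 2, 0, 3, 2], [0, 0, -1, 0, 1, 1, 0], [(11, [1], 2), (11, [2], 2), (9, [], 2), (11, [0], 2), (13, [], 2), (0, [], 0), (0, [], 0)]),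
  (9, 4, [4, 3, 1, 2, 0, 3, 4], [-1, 0, 1, 0, -1, 2, 0], [(10, [], 4), (12, [2], 4), (13, [], 4), (12, [3], 4), (9, [], 4), (0, [], 0), (0, [], 0)]),
  (11, 4, [4, 3, 1, 2, 0, 3, 2, 4], [0, 0, -1, 1, -1, 2, 0], [(13, [1], 4), (13, [2], 4), (12, [], 4), (14, [], 4), (11, [], 4), (0, [], 0), (0, [], 0)]),
  (13, 3, [4, 3, 1, 2, 0, 3, 2, 4, 3], [0, 1, 0, -1, 0, 2, 0], [(14, [1], 3), (15, [], 3), (14, [3], 3), (13, [], 3), (14, [0], 3), (0, [], 0), (0, [], 0)]),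
  (14, 1, [4, 3, 1, 2, 0, 3, 2, 4, 3, 1], [0, -1, 0, 0, 0, 2, 0], [(15, [1], 1), (14, [], 1), (15, [3], 1), (15, [2], 1), (15, [0], 1), (0, [], 0), (0, [], 0)])]

theorem table5_cosetTest : cosetTest table5 CoxeterMatrix.E₇ [0, 1, 2, 3, 4] [0, 1, 2, 3] = true := by
  decide +kernel

theorem table5_vecTest : vecTest cartan table5 [0, 1, 2, 3] = true := by
  decide +kernel

/-- Cosets of the parabolic subgroup of the first 5 nodes in that of the first 6. -/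
def table6 : List (Node 7) := [
  (0, 0, [], [0, 0, 0, 0, 0, 1, 0], [(0, [0], 0), (0, [1], 0), (0, [2], 0), (0, [3], 0), (0, [4], 0), (1, [], 0), (0, [], 0)]),
  (0, 5, [5], [0, 0, 0, 0, 1, -1, 1], [(1, [0], 5), (1, [1], 5), (1, [2], 5), (1, [3], 5), (2, [], 5), (0, [], 5), (0, [], 0)]),
  (1, 4, [5, 4], [0, 0, 0, 1, -1, 0, 1], [(2, [0], 4), (2, [1], 4), (2, [2], 4), (3, [], 4), (1, [], 4), (2, [4], 4), (0, [], 0)]),
  (2, 3, [5, 4, 3], [0, 1, 1, -1, 0, 0, 1], [(3, [0], 3), (4, [], 3), (5, [], 3), (2, [], 3), (3, [3], 3), (3, [4], 3), (0, [], 0)]),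
  (3, 1, [5, 4, 3, 1], [0, -1, 1, 0, 0, 0, 1], [(4, [0], 1), (3, [], 1), (6, [], 1), (4, [1], 1), (4, [3], 1), (4, [4], 1), (0, [], 0)]),
  (3, 2, [5, 4, 3, 2], [1, 1, -1, 0, 0, 0, 1], [(7, [], 2), (6, [], 2), (3, [], 2), (5, [2], 2), (5, [3], 2), (5, [4], 2), (0, [], 0)]),
  (4, 2, [5, 4, 3, 1, 2], [1, -1, -1, 1, 0, 0, 1], [(8, [], 2), (5, [], 2), (4, [], 2), (9, [], 2), (6, [3], 2), (6, [4], 2), (0, [], 0)]),
  (5, 0, [5, 4, 3, 2, 0], [-1, 1, 0, 0, 0, 0, 1], [(5, [], 0), (8, [], 0), (7, [0], 0), (7, [2], 0), (7, [3], 0), (7, [4], 0), (0, [], 0)]),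
  (6, 0, [5, 4, 3, 1, 2, 0], [-1, -1, 0, 1, 0, 0, 1], [(6, [], 0), (7, [], 0), (8, [0], 0), (10, [], 0), (8, [3], 0), (8, [4], 0), (0, [], 0)]),
  (6, 3, [5, 4, 3, 1, 2, 3], [1, 0, 0, -1, 1, 0, 1], [(10, [], 3), (9, [2], 3), (9, [1], 3), (6, [], 3), (11, [], 3), (9, [4], 3), (0, [], 0)]),
  (8, 3, [5, 4, 3, 1, 2, 0, 3], [-1, 0, 1, -1, 1, 0, 1], [(9, [], 3), (10, [2], 3), (12, [], 3), (8, [], 3), (13, [], 3), (10, [4], 3), (0, [], 0)]),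
  (9, 4, [5, 4, 3, 1, 2, 3, 4], [1, 0, 0, 0, -1, 1, 1], [(13, [], 4), (11, [2], 4), (11, [1], 4), (11, [3], 4), (9, [], 4), (14, [], 4), (0, [], 0)]),
  (10, 2, [5, 4, 3, 1, 2, 0, 3, 2], [0, 0, -1, 0, 1, 0, 1], [(12, [1], 2), (12, [2], 2), (10, [], 2), (12, [0], 2), (15, [], 2), (12, [4], 2), (0, [], 0)]),
  (10, 4, [5, 4, 3, 1, 2, 0, 3, 4], [-1, 0, 1, 0, -1, 1, 1], [(11, [], 4), (13, [2], 4), (15, [], 4), (13, [3], 4), (10, [], 4), (16, [], 4), (0, [], 0)]),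
  (11, 5, [5, 4, 3, 1, 2, 3, 4, 5], [1, 0, 0, 0, 0, -1, 2], [(16, [], 5), (14, [2], 5), (14, [1], 5), (14, [3], 5), (14, [4], 5), (11, [], 5), (0, [], 0)]),
  (12, 4, [5, 4, 3, 1, 2, 0, 3, 2, 4], [0, 0, -1, 1, -1, 1, 1], [(15, [1], 4), (15, [2], 4), (13, [], 4), (17, [], 4), (12, [], 4), (18, [], 4), (0, [], 0)]),
  (13, 5, [5, 4, 3, 1, 2, 0, 3, 4, 5], [-1, 0, 1, 0, 0, -1, 2], [(14, [], 5), (16, [2], 5), (18, [], 5), (16, [3], 5), (16, [4], 5), (13, [], 5), (0, [], 0)]),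
  (15, 3, [5, 4, 3, 1, 2, 0, 3, 2, 4, 3], [0, 1, 0, -1, 0, 1, 1], [(17, [1], 3), (19, [], 3), (17, [3], 3), (15, [], 3), (17, [0], 3), (20, [], 3), (0, [], 0)]),
  (15, 5, [5, 4, 3, 1, 2, 0, 3, 2, 4, 5], [0, 0, -1, 1, 0, -1, 2], [(18, [1], 5), (18, [2], 5), (16, [], 5), (20, [], 5), (18, [4], 5), (15, [], 5), (0, [], 0)]),
  (17, 1, [5, 4, 3, 1, 2, 0, 3, 2, 4, 3, 1], [0, -1, 0, 0, 0, 1, 1], [(19, [1], 1), (17, [], 1), (19, [3], 1), (19, [2], 1), (19, [0], 1), (21, [], 1), (0, [], 0)]),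
  (17, 5, [5, 4, 3, 1, 2, 0, 3, 2, 4, 3, 5], [0, 1, 0, -1, 1, -1, 2], [(20, [1], 5), (21, [], 5), (20, [3], 5), (18, [], 5), (22, [], 5), (17, [], 5), (0, [], 0)]),
  (19, 5, [5, 4, 3, 1, 2, 0, 3, 2, 4, 3, 1, 5], [0, -1, 0, 0, 1, -1, 2], [(21, [1], 5), (20, [], 5), (21, [3], 5), (21, [2], 5), (23, [], 5), (19, [], 5), (0, [], 0)]),
  (20, 4, [5, 4, 3, 1, 2, 0, 3, 2, 4, 3, 5, 4], [0, 1, 0, 0, -1, 0, 2], [(22, [1], 4), (23, [], 4), (22, [3], 4), (22, [4], 4), (20, [], 4), (22, [0], 4), (0, [], 0)]),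
  (21, 4, [5, 4, 3, 1, 2, 0, 3, 2, 4, 3, 1, 5, 4], [0, -1, 0, 1, -1, 0, 2], [(23, [1], 4), (22, [], 4), (23, [3], 4), (24, [], 4), (21, [], 4), (23, [0], 4), (0, [], 0)]),
  (23, 3, [5, 4, 3, 1, 2, 0, 3, 2, 4, 3, 1, 5, 4, 3], [0, 0, 1, -1, 0, 0, 2], [(24, [1], 3), (24, [4], 3), (25, [], 3), (23, [], 3), (24, [2], 3), (24, [0], 3), (0, [], 0)]),
  (24, 2, [5, 4, 3, 1, 2, 0, 3, 2, 4, 3, 1, 5, 4, 3, 2], [1, 0, -1, 0, 0, 0, 2], [(26, [], 2), (25, [4], 2), (24, [], 2), (25, [3], 2), (25, [2], 2), (25, [0], 2), (0, [], 0)]),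
  (25, 0, [5, 4, 3, 1, 2, 0, 3, 2, 4, 3, 1, 5, 4, 3, 2, 0], [-1, 0, 0, 0, 0, 0, 2], [(25, [], 0), (26, [4], 0), (26, [1], 0), (26, [3], 0), (26, [2], 0), (26, [0], 0), (0, [], 0)])]

theorem table6_cosetTest : cosetTest table6 CoxeterMatrix.E₇ [0, 1, 2, 3, 4, 5] [0, 1, 2, 3, 4] = true := by
  decide +kernel

theorem table6_vecTest : vecTest cartan table6 [0, 1, 2, 3, 4] = true := by
  decide +kernel

/-- Part 0 of `table7`. -/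
def table7Part0 : List (Node 7) := [
  (0, 0, [], [0, 0, 0, 0, 0, 0, 1], [(0, [0], 0), (0, [1], 0), (0, [2], 0), (0, [3], 0), (0, [4], 0), (0, [5], 0), (1, [], 0)]),
  (0, 6, [6], [0, 0, 0, 0, 0, 1, -1], [(1, [0], 6), (1, [1], 6), (1, [2], 6), (1, [3], 6), (1, [4], 6), (2, [], 6), (0, [], 6)]),
  (1, 5, [6, 5], [0, 0, 0, 0, 1, -1, 0], [(2, [0], 5), (2, [1], 5), (2, [2], 5), (2, [3], 5), (3, [], 5), (1, [], 5), (2, [5], 5)]),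
  (2, 4, [6, 5, 4], [0, 0, 0, 1, -1, 0, 0], [(3, [0], 4), (3, [1], 4), (3, [2], 4), (4, [], 4), (2, [], 4), (3, [4], 4), (3, [5], 4)]),
  (3, 3, [6, 5, 4, 3], [0, 1, 1, -1, 0, 0, 0], [(4, [0], 3), (5, [], 3), (6, [], 3), (3, [], 3), (4, [3], 3), (4, [4], 3), (4, [5], 3)]),
  (4, 1, [6, 5, 4, 3, 1], [0, -1, 1, 0, 0, 0, 0], [(5, [0], 1), (4, [], 1), (7, [], 1), (5, [1], 1), (5, [3], 1), (5, [4], 1), (5, [5], 1)]),
  (4, 2, [6, 5, 4, 3, 2], [1, 1, -1, 0, 0, 0, 0], [(8, [], 2), (7, [], 2), (4, [], 2), (6, [2], 2), (6, [3], 2), (6, [4], 2), (6, [5], 2)]),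
  (5, 2, [6, 5, 4, 3, 1, 2], [1, -1, -1, 1, 0, 0, 0], [(9, [], 2), (6, [], 2), (5, [], 2), (10, [], 2), (7, [3], 2), (7, [4], 2), (7, [5], 2)]),
  (6, 0, [6, 5, 4, 3, 2, 0], [-1, 1, 0, 0, 0, 0, 0], [(6, [], 0), (9, [], 0), (8, [0], 0), (8, [2], 0), (8, [3], 0), (8, [4], 0), (8, [5], 0)]),
  (7, 0, [6, 5, 4, 3, 1, 2, 0], [-1, -1, 0, 1, 0, 0, 0], [(7, [], 0), (8, [], 0), (9, [0], 0), (11, [], 0), (9, [3], 0), (9, [4], 0), (9, [5], 0)])]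

/-- Part 1 of `table7`. -/
def table7Part1 : List (Node 7) := [
  (7, 3, [6, 5, 4, 3, 1, 2, 3], [1, 0, 0, -1, 1, 0, 0], [(11, [], 3), (10, [2], 3), (10, [1], 3), (7, [], 3), (12, [], 3), (10, [4], 3), (10, [5], 3)]),
  (9, 3, [6, 5, 4, 3, 1, 2, 0, 3], [-1, 0, 1, -1, 1, 0, 0], [(10, [], 3), (11, [2], 3), (13, [], 3), (9, [], 3), (14, [], 3), (11, [4], 3), (11, [5], 3)]),
  (10, 4, [6, 5, 4, 3, 1, 2, 3, 4], [1, 0, 0, 0, -1, 1, 0], [(14, [], 4), (12, [2], 4), (12, [1], 4), (12, [3], 4), (10, [], 4), (15, [], 4), (12, [5], 4)]),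
  (11, 2, [6, 5, 4, 3, 1, 2, 0, 3, 2], [0, 0, -1, 0, 1, 0, 0], [(13, [1], 2), (13, [2], 2), (11, [], 2), (13, [0], 2), (16, [], 2), (13, [4], 2), (13, [5], 2)]),
  (11, 4, [6, 5, 4, 3, 1, 2, 0, 3, 4], [-1, 0, 1, 0, -1, 1, 0], [(12, [], 4), (14, [2], 4), (16, [], 4), (14, [3], 4), (11, [], 4), (17, [], 4), (14, [5], 4)]),
  (12, 5, [6, 5, 4, 3, 1, 2, 3, 4, 5], [1, 0, 0, 0, 0, -1, 1], [(17, [], 5), (15, [2], 5), (15, [1], 5), (15, [3], 5), (15, [4], 5), (12, [], 5), (18, [], 5)]),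
  (13, 4, [6, 5, 4, 3, 1, 2, 0, 3, 2, 4], [0, 0, -1, 1, -1, 1, 0], [(16, [1], 4), (16, [2], 4), (14, [], 4), (19, [], 4), (13, [], 4), (20, [], 4), (16, [5], 4)]),
  (14, 5, [6, 5, 4, 3, 1, 2, 0, 3, 4, 5], [-1, 0, 1, 0, 0, -1, 1], [(15, [], 5), (17, [2], 5), (20, [], 5), (17, [3], 5), (17, [4], 5), (14, [], 5), (21, [], 5)]),
  (15, 6, [6, 5, 4, 3, 1, 2, 3, 4, 5, 6], [1, 0, 0, 0, 0, 0, -1], [(21, [], 6), (18, [2], 6), (18, [1], 6), (18, [3], 6), (18, [4], 6), (18, [5], 6), (15, [], 6)]),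
  (16, 3, [6, 5, 4, 3, 1, 2, 0, 3, 2, 4, 3], [0, 1, 0, -1, 0, 1, 0], [(19, [1], 3), (22, [], 3), (19, [3], 3), (16, [], 3), (19, [0], 3), (23, [], 3), (19, [5], 3)])]

/-- Part 2 of `table7`. -/
def table7Part2 : List (Node 7) := [
  (16, 5, [6, 5, 4, 3, 1, 2, 0, 3, 2, 4, 5], [0, 0, -1, 1, 0, -1, 1], [(20, [1], 5), (20, [2], 5), (17, [], 5), (23, [], 5), (20, [4], 5), (16, [], 5), (24, [], 5)]),
  (17, 6, [6, 5, 4, 3, 1, 2, 0, 3, 4, 5, 6], [-1, 0, 1, 0, 0, 0, -1], [(18, [], 6), (21, [2], 6), (24, [], 6), (21, [3], 6), (21, [4], 6), (21, [5], 6), (17, [], 6)]),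
  (19, 1, [6, 5, 4, 3, 1, 2, 0, 3, 2, 4, 3, 1], [0, -1, 0, 0, 0, 1, 0], [(22, [1], 1), (19, [], 1), (22, [3], 1), (22, [2], 1), (22, [0], 1), (25, [], 1), (22, [5], 1)]),
  (19, 5, [6, 5, 4, 3, 1, 2, 0, 3, 2, 4, 3, 5], [0, 1, 0, -1, 1, -1, 1], [(23, [1], 5), (25, [], 5), (23, [3], 5), (20, [], 5), (26, [], 5), (19, [], 5), (27, [], 5)]),
  (20, 6, [6, 5, 4, 3, 1, 2, 0, 3, 2, 4, 5, 6], [0, 0, -1, 1, 0, 0, -1], [(24, [1], 6), (24, [2], 6), (21, [], 6), (27, [], 6), (24, [4], 6), (24, [5], 6), (20, [], 6)]),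
  (22, 5, [6, 5, 4, 3, 1, 2, 0, 3, 2, 4, 3, 1, 5], [0, -1, 0, 0, 1, -1, 1], [(25, [1], 5), (23, [], 5), (25, [3], 5), (25, [2], 5), (28, [], 5), (22, [], 5), (29, [], 5)]),
  (23, 4, [6, 5, 4, 3, 1, 2, 0, 3, 2, 4, 3, 5, 4], [0, 1, 0, 0, -1, 0, 1], [(26, [1], 4), (28, [], 4), (26, [3], 4), (26, [4], 4), (23, [], 4), (26, [0], 4), (30, [], 4)]),
  (23, 6, [6, 5, 4, 3, 1, 2, 0, 3, 2, 4, 3, 5, 6], [0, 1, 0, -1, 1, 0, -1], [(27, [1], 6), (29, [], 6), (27, [3], 6), (24, [], 6), (30, [], 6), (27, [5], 6), (23, [], 6)]),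
  (25, 4, [6, 5, 4, 3, 1, 2, 0, 3, 2, 4, 3, 1, 5, 4], [0, -1, 0, 1, -1, 0, 1], [(28, [1], 4), (26, [], 4), (28, [3], 4), (31, [], 4), (25, [], 4), (28, [0], 4), (32, [], 4)]),
  (25, 6, [6, 5, 4, 3, 1, 2, 0, 3, 2, 4, 3, 1, 5, 6], [0, -1, 0, 0, 1, 0, -1], [(29, [1], 6), (27, [], 6), (29, [3], 6), (29, [2], 6), (32, [], 6), (29, [5], 6), (25, [], 6)])]

/-- Part 3 of `table7`. -/
def table7Part3 : List (Node 7) := [
  (26, 6, [6, 5, 4, 3, 1, 2, 0, 3, 2, 4, 3, 5, 4, 6], [0, 1, 0, 0, -1, 1, -1], [(30, [1], 6), (32, [], 6), (30, [3], 6), (30, [4], 6), (27, [], 6), (33, [], 6), (26, [], 6)]),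
  (28, 3, [6, 5, 4, 3, 1, 2, 0, 3, 2, 4, 3, 1, 5, 4, 3], [0, 0, 1, -1, 0, 0, 1], [(31, [1], 3), (31, [4], 3), (34, [], 3), (28, [], 3), (31, [2], 3), (31, [0], 3), (35, [], 3)]),
  (28, 6, [6, 5, 4, 3, 1, 2, 0, 3, 2, 4, 3, 1, 5, 4, 6], [0, -1, 0, 1, -1, 1, -1], [(32, [1], 6), (30, [], 6), (32, [3], 6), (35, [], 6), (29, [], 6), (36, [], 6), (28, [], 6)]),
  (30, 5, [6, 5, 4, 3, 1, 2, 0, 3, 2, 4, 3, 5, 4, 6, 5], [0, 1, 0, 0, 0, -1, 0], [(33, [1], 5), (36, [], 5), (33, [3], 5), (33, [4], 5), (33, [5], 5), (30, [], 5), (33, [0], 5)]),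
  (31, 2, [6, 5, 4, 3, 1, 2, 0, 3, 2, 4, 3, 1, 5, 4, 3, 2], [1, 0, -1, 0, 0, 0, 1], [(37, [], 2), (34, [4], 2), (31, [], 2), (34, [3], 2), (34, [2], 2), (34, [0], 2), (38, [], 2)]),
  (31, 6, [6, 5, 4, 3, 1, 2, 0, 3, 2, 4, 3, 1, 5, 4, 3, 6], [0, 0, 1, -1, 0, 1, -1], [(35, [1], 6), (35, [4], 6), (38, [], 6), (32, [], 6), (35, [2], 6), (39, [], 6), (31, [], 6)]),
  (32, 5, [6, 5, 4, 3, 1, 2, 0, 3, 2, 4, 3, 1, 5, 4, 6, 5], [0, -1, 0, 1, 0, -1, 0], [(36, [1], 5), (33, [], 5), (36, [3], 5), (39, [], 5), (36, [5], 5), (32, [], 5), (36, [0], 5)]),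
  (34, 0, [6, 5, 4, 3, 1, 2, 0, 3, 2, 4, 3, 1, 5, 4, 3, 2, 0], [-1, 0, 0, 0, 0, 0, 1], [(34, [], 0), (37, [4], 0), (37, [1], 0), (37, [3], 0), (37, [2], 0), (37, [0], 0), (40, [], 0)]),
  (34, 6, [6, 5, 4, 3, 1, 2, 0, 3, 2, 4, 3, 1, 5, 4, 3, 2, 6], [1, 0, -1, 0, 0, 1, -1], [(40, [], 6), (38, [4], 6), (35, [], 6), (38, [3], 6), (38, [2], 6), (41, [], 6), (34, [], 6)]),
  (35, 5, [6, 5, 4, 3, 1, 2, 0, 3, 2, 4, 3, 1, 5, 4, 3, 6, 5], [0, 0, 1, -1, 1, -1, 0], [(39, [1], 5), (39, [4], 5), (41, [], 5), (36, [], 5), (42, [], 5), (35, [], 5), (39, [0], 5)])]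

/-- Part 4 of `table7`. -/
def table7Part4 : List (Node 7) := [
  (37, 6, [6, 5, 4, 3, 1, 2, 0, 3, 2, 4, 3, 1, 5, 4, 3, 2, 0, 6], [-1, 0, 0, 0, 0, 1, -1], [(38, [], 6), (40, [4], 6), (40, [1], 6), (40, [3], 6), (40, [2], 6), (43, [], 6), (37, [], 6)]),
  (38, 5, [6, 5, 4, 3, 1, 2, 0, 3, 2, 4, 3, 1, 5, 4, 3, 2, 6, 5], [1, 0, -1, 0, 1, -1, 0], [(43, [], 5), (41, [4], 5), (39, [], 5), (41, [3], 5), (44, [], 5), (38, [], 5), (41, [0], 5)]),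
  (39, 4, [6, 5, 4, 3, 1, 2, 0, 3, 2, 4, 3, 1, 5, 4, 3, 6, 5, 4], [0, 0, 1, 0, -1, 0, 0], [(42, [1], 4), (42, [4], 4), (44, [], 4), (42, [5], 4), (39, [], 4), (42, [2], 4), (42, [0], 4)]),
  (40, 5, [6, 5, 4, 3, 1, 2, 0, 3, 2, 4, 3, 1, 5, 4, 3, 2, 0, 6, 5], [-1, 0, 0, 0, 1, -1, 0], [(41, [], 5), (43, [4], 5), (43, [1], 5), (43, [3], 5), (45, [], 5), (40, [], 5), (43, [0], 5)]),
  (41, 4, [6, 5, 4, 3, 1, 2, 0, 3, 2, 4, 3, 1, 5, 4, 3, 2, 6, 5, 4], [1, 0, -1, 1, -1, 0, 0], [(45, [], 4), (44, [4], 4), (42, [], 4), (46, [], 4), (41, [], 4), (44, [2], 4), (44, [0], 4)]),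
  (43, 4, [6, 5, 4, 3, 1, 2, 0, 3, 2, 4, 3, 1, 5, 4, 3, 2, 0, 6, 5, 4], [-1, 0, 0, 1, -1, 0, 0], [(44, [], 4), (45, [4], 4), (45, [1], 4), (47, [], 4), (43, [], 4), (45, [2], 4), (45, [0], 4)]),
  (44, 3, [6, 5, 4, 3, 1, 2, 0, 3, 2, 4, 3, 1, 5, 4, 3, 2, 6, 5, 4, 3], [1, 1, 0, -1, 0, 0, 0], [(47, [], 3), (48, [], 3), (46, [5], 3), (44, [], 3), (46, [3], 3), (46, [2], 3), (46, [0], 3)]),
  (45, 3, [6, 5, 4, 3, 1, 2, 0, 3, 2, 4, 3, 1, 5, 4, 3, 2, 0, 6, 5, 4, 3], [-1, 1, 1, -1, 0, 0, 0], [(46, [], 3), (49, [], 3), (50, [], 3), (45, [], 3), (47, [3], 3), (47, [2], 3), (47, [0], 3)]),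
  (46, 1, [6, 5, 4, 3, 1, 2, 0, 3, 2, 4, 3, 1, 5, 4, 3, 2, 6, 5, 4, 3, 1], [1, -1, 0, 0, 0, 0, 0], [(49, [], 1), (46, [], 1), (48, [5], 1), (48, [4], 1), (48, [3], 1), (48, [2], 1), (48, [0], 1)]),
  (47, 1, [6, 5, 4, 3, 1, 2, 0, 3, 2, 4, 3, 1, 5, 4, 3, 2, 0, 6, 5, 4, 3, 1], [-1, -1, 1, 0, 0, 0, 0], [(48, [], 1), (47, [], 1), (51, [], 1), (49, [4], 1), (49, [3], 1), (49, [2], 1), (49, [0], 1)])]

/-- Part 5 of `table7`. -/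
def table7Part5 : List (Node 7) := [
  (47, 2, [6, 5, 4, 3, 1, 2, 0, 3, 2, 4, 3, 1, 5, 4, 3, 2, 0, 6, 5, 4, 3, 2], [0, 1, -1, 0, 0, 0, 0], [(50, [5], 2), (51, [], 2), (47, [], 2), (50, [1], 2), (50, [3], 2), (50, [2], 2), (50, [0], 2)]),
  (49, 2, [6, 5, 4, 3, 1, 2, 0, 3, 2, 4, 3, 1, 5, 4, 3, 2, 0, 6, 5, 4, 3, 1, 2], [0, -1, -1, 1, 0, 0, 0], [(51, [5], 2), (50, [], 2), (49, [], 2), (52, [], 2), (51, [3], 2), (51, [2], 2), (51, [0], 2)]),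
  (51, 3, [6, 5, 4, 3, 1, 2, 0, 3, 2, 4, 3, 1, 5, 4, 3, 2, 0, 6, 5, 4, 3, 1, 2, 3], [0, 0, 0, -1, 1, 0, 0], [(52, [5], 3), (52, [1], 3), (52, [4], 3), (51, [], 3), (53, [], 3), (52, [2], 3), (52, [0], 3)]),
  (52, 4, [6, 5, 4, 3, 1, 2, 0, 3, 2, 4, 3, 1, 5, 4, 3, 2, 0, 6, 5, 4, 3, 1, 2, 3, 4], [0, 0, 0, 0, -1, 1, 0], [(53, [5], 4), (53, [1], 4), (53, [4], 4), (53, [3], 4), (52, [], 4), (54, [], 4), (53, [0], 4)]),
  (53, 5, [6, 5, 4, 3, 1, 2, 0, 3, 2, 4, 3, 1, 5, 4, 3, 2, 0, 6, 5, 4, 3, 1, 2, 3, 4, 5], [0, 0, 0, 0, 0, -1, 1], [(54, [5], 5), (54, [1], 5), (54, [4], 5), (54, [3], 5), (54, [2], 5), (53, [], 5), (55, [], 5)]),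
  (54, 6, [6, 5, 4, 3, 1, 2, 0, 3, 2, 4, 3, 1, 5, 4, 3, 2, 0, 6, 5, 4, 3, 1, 2, 3, 4, 5, 6], [0, 0, 0, 0, 0, 0, -1], [(55, [5], 6), (55, [1], 6), (55, [4], 6), (55, [3], 6), (55, [2], 6), (55, [0], 6), (54, [], 6)])]

/-- Cosets of the parabolic subgroup of the first 6 nodes in that of the first 7. -/
def table7 : List (Node 7) := List.flatten [table7Part0, table7Part1, table7Part2, table7Part3, table7Part4, table7Part5]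

theorem table7_cosetTest : cosetTest table7 CoxeterMatrix.E₇ [0, 1, 2, 3, 4, 5, 6] [0, 1, 2, 3, 4, 5] = true := by
  decide +kernel

theorem table7_vecTest : vecTest cartan table7 [0, 1, 2, 3, 4, 5] = true := by
  decide +kernel

/-- The Weyl group of type E7 has order 2903040 and its reflection representation is faithful. -/
theorem card_and_faithful : Finite CoxeterMatrix.E₇.Group ∧ Nat.card CoxeterMatrix.E₇.Group = 2903040 ∧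
    Function.Injective (rep cartan_repTest) := by
  have h0 := chainOK_nil cartan_repTest
  have h1 := chainOK_step h0 table1_cosetTest table1_vecTest
  have h2 := chainOK_step h1 table2_cosetTest table2_vecTest
  have h3 := chainOK_step h2 table3_cosetTest table3_vecTest
  have h4 := chainOK_step h3 table4_cosetTest table4_vecTest
  have h5 := chainOK_step h4 table5_cosetTest table5_vecTest
  have h6 := chainOK_step h5 table6_cosetTest table6_vecTest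
  have h7 := chainOK_step h6 table7_cosetTest table7_vecTest
  have he : table7.length * (table6.length * (table5.length * (table4.length * (table3.length * (table2.length * (table1.length * (1))))))) = 2903040 := by decide +kernel
  rw [he] at h7
  exact chainOK_top h7 (by decide)

end CfsgLib.Weyl.E7
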