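import Cfsg.Agent.Lib.Weyl.Rep
import Mathlib.GroupTheory.Coxeter.Matrix

/-!
Certificates for the Coxeter group of type B2: order, faithful integral representation.
-/

set_option autoImplicit false

namespace CfsgLib.Weyl.B2

/-- The Cartan matrix of type B2. -/
def cartan : List (List ℤ) := [[2, -1], [-2, 2]]

theorem cartan_repTest : repTest cartan (CoxeterMatrix.B 2) = true := by decide +kernel

/-- Cosets of the parabolic subgroup of the first 0 nodes in that of the first 1. -/
def table1 : List (Node 2) := [
  (0, 0, [], [1, 0], [(1, [], 0), (0, [], 0)]),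
  (0, 0, [0], [-1, 1], [(0, [], 0), (0, [], 0)])]

theorem table1_cosetTest : cosetTest table1 (CoxeterMatrix.B 2) [0] [] = true := by
  decide +kernel

theorem table1_vecTest : vecTest cartan table1 [] = true := by
  decide +kernel

/-- Cosets of the parabolic subgroup of the first 1 nodes in that of the first 2. -/
def table2 : List (Node 2) := [
  (0, 0, [], [0, 1], [(0, [0], 0), (1, [], 0)]),
  (0, 1, [1], [2, -1], [(2, [], 1), (0, [], 1)]),
  (1, 0, [1, 0], [-2, 1], [(1, [], 0), (3, [], 0)]),
  (2, 1, [1, 0, 1], [0, -1], [(3, [0], 1), (2, [], 1)])]

theorem table2_cosetTest : cosetTest table2 (CoxeterMatrix.B 2) [0, 1] [0] = true := by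
  decide +kernel

theorem table2_vecTest : vecTest cartan table2 [0] = true := by
  decide +kernel

/-- The Weyl group of type B2 has order 8 and its reflection representation is faithful. -/
theorem card_and_faithful : Finite (CoxeterMatrix.B 2).Group ∧ Nat.card (CoxeterMatrix.B 2).Group = 8 ∧
    Function.Injective (rep cartan_repTest) := by
  have h0 := chainOK_nil cartan_repTest
  have h1 := chainOK_step h0 table1_cosetTest table1_vecTest
  have h2 := chainOK_step h1 table2_cosetTest table2_vecTest
  have he : table2.length * (table1.length * (1)) = 8 := by decide +kernel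
  rw [he] at h2
  exact chainOK_top h2 (by decide)

end CfsgLib.Weyl.B2
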