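import Cfsg.Agent.Lib.Weyl.Rep
import Cfsg.Prelude.Def_ChevStructure

/-!
Certificates for the Coxeter group of type D4: order, faithful integral representation.
-/

set_option autoImplicit false

namespace CfsgLib.Weyl.D4

/-- The Cartan matrix of type D4. -/
def cartan : List (List ℤ) := [[2, -1, 0, 0], [-1, 2, -1, -1], [0, -1, 2, 0], [0, -1, 0, 2]]

theorem cartan_repTest : repTest cartan Cfsg.Lie.coxeterD4 = true := by decide +kernel

/-- Cosets of the parabolic subgroup of the first 0 nodes in that of the first 1. -/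
def table1 : List (Node 4) := [
  (0, 0, [], [1, 0, 0, 0], [(1, [], 0), (0, [], 0), (0, [], 0), (0, [], 0)]),
  (0, 0, [0], [-1, 1, 0, 0], [(0, [], 0), (0, [], 0), (0, [], 0), (0, [], 0)])]

theorem table1_cosetTest : cosetTest table1 Cfsg.Lie.coxeterD4 [0] [] = true := by
  decide +kernel

theorem table1_vecTest : vecTest cartan table1 [] = true := by
  decide +kernel

/-- Cosets of the parabolic subgroup of the first 1 nodes in that of the first 2. -/
def table2 : List (Node 4) := [
  (0, 0, [], [0, 1, 0, 0], [(0, [0], 0), (1, [], 0), (0, [], 0), (0, [], 0)]),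
  (0, 1, [1], [1, -1, 1, 1], [(2, [], 1), (0, [], 1), (0, [], 0), (0, [], 0)]),
  (1, 0, [1, 0], [-1, 0, 1, 1], [(1, [], 0), (2, [0], 0), (0, [], 0), (0, [], 0)])]

theorem table2_cosetTest : cosetTest table2 Cfsg.Lie.coxeterD4 [0, 1] [0] = true := by
  decide +kernel

theorem table2_vecTest : vecTest cartan table2 [0] = true := by
  decide +kernel

/-- Cosets of the parabolic subgroup of the first 2 nodes in that of the first 3. -/
def table3 : List (Node 4) := [
  (0, 0, [], [0, 0, 1, 0], [(0, [0], 0), (0, [1], 0), (1, [], 0), (0, [], 0)]),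
  (0, 2, [2], [0, 1, -1, 0], [(1, [0], 2), (2, [], 2), (0, [], 2), (0, [], 0)]),
  (1, 1, [2, 1], [1, -1, 0, 1], [(3, [], 1), (1, [], 1), (2, [1], 1), (0, [], 0)]),
  (2, 0, [2, 1, 0], [-1, 0, 0, 1], [(2, [], 0), (3, [0], 0), (3, [1], 0), (0, [], 0)])]

theorem table3_cosetTest : cosetTest table3 Cfsg.Lie.coxeterD4 [0, 1, 2] [0, 1] = true := by
  decide +kernel

theorem table3_vecTest : vecTest cartan table3 [0, 1] = true := by
  decide +kernel

/-- Cosets of the parabolic subgroup of the first 3 nodes in that of the first 4. -/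
def table4 : List (Node 4) := [
  (0, 0, [], [0, 0, 0, 1], [(0, [0], 0), (0, [1], 0), (0, [2], 0), (1, [], 0)]),
  (0, 3, [3], [0, 1, 0, -1], [(1, [0], 3), (2, [], 3), (1, [2], 3), (0, [], 3)]),
  (1, 1, [3, 1], [1, -1, 1, 0], [(3, [], 1), (1, [], 1), (4, [], 1), (2, [1], 1)]),
  (2, 0, [3, 1, 0], [-1, 0, 1, 0], [(2, [], 0), (3, [0], 0), (5, [], 0), (3, [1], 0)]),
  (2, 2, [3, 1, 2], [1, 0, -1, 0], [(5, [], 2), (4, [2], 2), (2, [], 2), (4, [1], 2)]),
  (3, 2, [3, 1, 0, 2], [-1, 1, -1, 0], [(4, [], 2), (6, [], 2), (3, [], 2), (5, [1], 2)]),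
  (5, 1, [3, 1, 0, 2, 1], [0, -1, 0, 1], [(6, [2], 1), (5, [], 1), (6, [0], 1), (7, [], 1)]),
  (6, 3, [3, 1, 0, 2, 1, 3], [0, 0, 0, -1], [(7, [2], 3), (7, [1], 3), (7, [0], 3), (6, [], 3)])]

theorem table4_cosetTest : cosetTest table4 Cfsg.Lie.coxeterD4 [0, 1, 2, 3] [0, 1, 2] = true := by
  decide +kernel

theorem table4_vecTest : vecTest cartan table4 [0, 1, 2] = true := by
  decide +kernel

/-- The Weyl group of type D4 has order 192 and its reflection representation is faithful. -/
theorem card_and_faithful : Finite Cfsg.Lie.coxeterD4.Group ∧ Nat.card Cfsg.Lie.coxeterD4.Group = 192 ∧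
    Function.Injective (rep cartan_repTest) := by
  have h0 := chainOK_nil cartan_repTest
  have h1 := chainOK_step h0 table1_cosetTest table1_vecTest
  have h2 := chainOK_step h1 table2_cosetTest table2_vecTest
  have h3 := chainOK_step h2 table3_cosetTest table3_vecTest
  have h4 := chainOK_step h3 table4_cosetTest table4_vecTest
  have he : table4.length * (table3.length * (table2.length * (table1.length * (1)))) = 192 := by decide +kernel
  rw [he] at h4
  exact chainOK_top h4 (by decide)

end CfsgLib.Weyl.D4
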