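import Cfsg.Agent.Lib.Weyl.Rep
import Mathlib.GroupTheory.Coxeter.Matrix

/-!
Certificates for the Coxeter group of type E6: order, faithful integral representation.
-/

set_option autoImplicit false

namespace CfsgLib.Weyl.E6

/-- The Cartan matrix of type E6. -/
def cartan : List (List ℤ) := [[2, 0, -1, 0, 0, 0], [0, 2, 0, -1, 0, 0], [-1, 0, 2, -1, 0, 0], [0, -1, -1, 2, -1, 0], [0, 0, 0, -1, 2, -1], [0, 0, 0, 0, -1, 2]]

theorem cartan_repTest : repTest cartan CoxeterMatrix.E₆ = true := by decide +kernel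

/-- Cosets of the parabolic subgroup of the first 0 nodes in that of the first 1. -/
def table1 : List (Node 6) := [
  (0, 0, [], [1, 0, 0, 0, 0, 0], [(1, [], 0), (0, [], 0), (0, [], 0), (0, [], 0), (0, [], 0), (0, [], 0)]),
  (0, 0, [0], [-1, 0, 1, 0, 0, 0], [(0, [], 0), (0, [], 0), (0, [], 0), (0, [], 0), (0, [], 0), (0, [], 0)])]

theorem table1_cosetTest : cosetTest table1 CoxeterMatrix.E₆ [0] [] = true := by
  decide +kernel

theorem table1_vecTest : vecTest cartan table1 [] = true := by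
  decide +kernel

/-- Cosets of the parabolic subgroup of the first 1 nodes in that of the first 2. -/
def table2 : List (Node 6) := [
  (0, 0, [], [0, 1, 0, 0, 0, 0], [(0, [0], 0), (1, [], 0), (0, [], 0), (0, [], 0), (0, [], 0), (0, [], 0)]),
  (0, 1, [1], [0, -1, 0, 1, 0, 0], [(1, [0], 1), (0, [], 1), (0, [], 0), (0, [], 0), (0, [], 0), (0, [], 0)])]

theorem table2_cosetTest : cosetTest table2 CoxeterMatrix.E₆ [0, 1] [0] = true := by
  decide +kernel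

theorem table2_vecTest : vecTest cartan table2 [0] = true := by
  decide +kernel

/-- Cosets of the parabolic subgroup of the first 2 nodes in that of the first 3. -/
def table3 : List (Node 6) := [
  (0, 0, [], [0, 0, 1, 0, 0, 0], [(0, [0], 0), (0, [1], 0), (1, [], 0), (0, [], 0), (0, [], 0), (0, [], 0)]),
  (0, 2, [2], [1, 0, -1, 1, 0, 0], [(2, [], 2), (1, [1], 2), (0, [], 2), (0, [], 0), (0, [], 0), (0, [], 0)]),
  (1, 0, [2, 0], [-1, 0, 0, 1, 0, 0], [(1, [], 0), (2, [1], 0), (2, [0], 0), (0, [], 0), (0, [], 0), (0, [], 0)])]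

theorem table3_cosetTest : cosetTest table3 CoxeterMatrix.E₆ [0, 1, 2] [0, 1] = true := by
  decide +kernel

theorem table3_vecTest : vecTest cartan table3 [0, 1] = true := by
  decide +kernel

/-- Cosets of the parabolic subgroup of the first 3 nodes in that of the first 4. -/
def table4 : List (Node 6) := [
  (0, 0, [], [0, 0, 0, 1, 0, 0], [(0, [0], 0), (0, [1], 0), (0, [2], 0), (1, [], 0), (0, [], 0), (0, [], 0)]),
  (0, 3, [3], [0, 1, 1, -1, 1, 0], [(1, [0], 3), (2, [], 3), (3, [], 3), (0, [], 3), (0, [], 0), (0, [], 0)]),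
  (1, 1, [3, 1], [0, -1, 1, 0, 1, 0], [(2, [0], 1), (1, [], 1), (4, [], 1), (2, [1], 1), (0, [], 0), (0, [], 0)]),
  (1, 2, [3, 2], [1, 1, -1, 0, 1, 0], [(5, [], 2), (4, [], 2), (1, [], 2), (3, [2], 2), (0, [], 0), (0, [], 0)]),
  (2, 2, [3, 1, 2], [1, -1, -1, 1, 1, 0], [(6, [], 2), (3, [], 2), (2, [], 2), (7, [], 2), (0, [], 0), (0, [], 0)]),
  (3, 0, [3, 2, 0], [-1, 1, 0, 0, 1, 0], [(3, [], 0), (6, [], 0), (5, [0], 0), (5, [2], 0), (0, [], 0), (0, [], 0)]),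
  (4, 0, [3, 1, 2, 0], [-1, -1, 0, 1, 1, 0], [(4, [], 0), (5, [], 0), (6, [0], 0), (8, [], 0), (0, [], 0), (0, [], 0)]),
  (4, 3, [3, 1, 2, 3], [1, 0, 0, -1, 2, 0], [(8, [], 3), (7, [2], 3), (7, [1], 3), (4, [], 3), (0, [], 0), (0, [], 0)]),
  (6, 3, [3, 1, 2, 0, 3], [-1, 0, 1, -1, 2, 0], [(7, [], 3), (8, [2], 3), (9, [], 3), (6, [], 3), (0, [], 0), (0, [], 0)]),
  (8, 2, [3, 1, 2, 0, 3, 2], [0, 0, -1, 0, 2, 0], [(9, [1], 2), (9, [2], 2), (8, [], 2), (9, [0], 2), (0, [], 0), (0, [], 0)])]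

theorem table4_cosetTest : cosetTest table4 CoxeterMatrix.E₆ [0, 1, 2, 3] [0, 1, 2] = true := by
  decide +kernel

theorem table4_vecTest : vecTest cartan table4 [0, 1, 2] = true := by
  decide +kernel

/-- Cosets of the parabolic subgroup of the first 4 nodes in that of the first 5. -/
def table5 : List (Node 6) := [
  (0, 0, [], [0, 0, 0, 0, 1, 0], [(0, [0], 0), (0, [1], 0), (0, [2], 0), (0, [3], 0), (1, [], 0), (0, [], 0)]),
  (0, 4, [4], [0, 0, 0, 1, -1, 1], [(1, [0], 4), (1, [1], 4), (1, [2], 4), (2, [], 4), (0, [], 4), (0, [], 0)]),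
  (1, 3, [4, 3], [0, 1, 1, -1, 0, 1], [(2, [0], 3), (3, [], 3), (4, [], 3), (1, [], 3), (2, [3], 3), (0, [], 0)]),
  (2, 1, [4, 3, 1], [0, -1, 1, 0, 0, 1], [(3, [0], 1), (2, [], 1), (5, [], 1), (3, [1], 1), (3, [3], 1), (0, [], 0)]),
  (2, 2, [4, 3, 2], [1, 1, -1, 0, 0, 1], [(6, [], 2), (5, [], 2), (2, [], 2), (4, [2], 2), (4, [3], 2), (0, [], 0)]),
  (3, 2, [4, 3, 1, 2], [1, -1, -1, 1, 0, 1], [(7, [], 2), (4, [], 2), (3, [], 2), (8, [], 2), (5, [3], 2), (0, [], 0)]),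
  (4, 0, [4, 3, 2, 0], [-1, 1, 0, 0, 0, 1], [(4, [], 0), (7, [], 0), (6, [0], 0), (6, [2], 0), (6, [3], 0), (0, [], 0)]),
  (5, 0, [4, 3, 1, 2, 0], [-1, -1, 0, 1, 0, 1], [(5, [], 0), (6, [], 0), (7, [0], 0), (9, [], 0), (7, [3], 0), (0, [], 0)]),
  (5, 3, [4, 3, 1, 2, 3], [1, 0, 0, -1, 1, 1], [(9, [], 3), (8, [2], 3), (8, [1], 3), (5, [], 3), (10, [], 3), (0, [], 0)]),
  (7, 3, [4, 3, 1, 2, 0, 3], [-1, 0, 1, -1, 1, 1], [(8, [], 3), (9, [2], 3), (11, [], 3), (7, [], 3), (12, [], 3), (0, [], 0)]),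
  (8, 4, [4, 3, 1, 2, 3, 4], [1, 0, 0, 0, -1, 2], [(12, [], 4), (10, [2], 4), (10, [1], 4), (10, [3], 4), (8, [], 4), (0, [], 0)]),
  (9, 2, [4, 3, 1, 2, 0, 3, 2], [0, 0, -1, 0, 1, 1], [(11, [1], 2), (11, [2], 2), (9, [], 2), (11, [0], 2), (13, [], 2), (0, [], 0)]),
  (9, 4, [4, 3, 1, 2, 0, 3, 4], [-1, 0, 1, 0, -1, 2], [(10, [], 4), (12, [2], 4), (13, [], 4), (12, [3], 4), (9, [], 4), (0, [], 0)]),
  (11, 4, [4, 3, 1, 2, 0, 3, 2, 4], [0, 0, -1, 1, -1, 2], [(13, [1], 4), (13, [2], 4), (12, [], 4), (14, [], 4), (11, [], 4), (0, [], 0)]),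
  (13, 3, [4, 3, 1, 2, 0, 3, 2, 4, 3], [0, 1, 0, -1, 0, 2], [(14, [1], 3), (15, [], 3), (14, [3], 3), (13, [], 3), (14, [0], 3), (0, [], 0)]),
  (14, 1, [4, 3, 1, 2, 0, 3, 2, 4, 3, 1], [0, -1, 0, 0, 0, 2], [(15, [1], 1), (14, [], 1), (15, [3], 1), (15, [2], 1), (15, [0], 1), (0, [], 0)])]

theorem table5_cosetTest : cosetTest table5 CoxeterMatrix.E₆ [0, 1, 2, 3, 4] [0, 1, 2, 3] = true := by
  decide +kernel

theorem table5_vecTest : vecTest cartan table5 [0, 1, 2, 3] = true := by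
  decide +kernel

/-- Cosets of the parabolic subgroup of the first 5 nodes in that of the first 6. -/
def table6 : List (Node 6) := [
  (0, 0, [], [0, 0, 0, 0, 0, 1], [(0, [0], 0), (0, [1], 0), (0, [2], 0), (0, [3], 0), (0, [4], 0), (1, [], 0)]),
  (0, 5, [5], [0, 0, 0, 0, 1, -1], [(1, [0], 5), (1, [1], 5), (1, [2], 5), (1, [3], 5), (2, [], 5), (0, [], 5)]),
  (1, 4, [5, 4], [0, 0, 0, 1, -1, 0], [(2, [0], 4), (2, [1], 4), (2, [2], 4), (3, [], 4), (1, [], 4), (2, [4], 4)]),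
  (2, 3, [5, 4, 3], [0, 1, 1, -1, 0, 0], [(3, [0], 3), (4, [], 3), (5, [], 3), (2, [], 3), (3, [3], 3), (3, [4], 3)]),
  (3, 1, [5, 4, 3, 1], [0, -1, 1, 0, 0, 0], [(4, [0], 1), (3, [], 1), (6, [], 1), (4, [1], 1), (4, [3], 1), (4, [4], 1)]),
  (3, 2, [5, 4, 3, 2], [1, 1, -1, 0, 0, 0], [(7, [], 2), (6, [], 2), (3, [], 2), (5, [2], 2), (5, [3], 2), (5, [4], 2)]),
  (4, 2, [5, 4, 3, 1, 2], [1, -1, -1, 1, 0, 0], [(8, [], 2), (5, [], 2), (4, [], 2), (9, [], 2), (6, [3], 2), (6, [4], 2)]),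
  (5, 0, [5, 4, 3, 2, 0], [-1, 1, 0, 0, 0, 0], [(5, [], 0), (8, [], 0), (7, [0], 0), (7, [2], 0), (7, [3], 0), (7, [4], 0)]),
  (6, 0, [5, 4, 3, 1, 2, 0], [-1, -1, 0, 1, 0, 0], [(6, [], 0), (7, [], 0), (8, [0], 0), (10, [], 0), (8, [3], 0), (8, [4], 0)]),
  (6, 3, [5, 4, 3, 1, 2, 3], [1, 0, 0, -1, 1, 0], [(10, [], 3), (9, [2], 3), (9, [1], 3), (6, [], 3), (11, [], 3), (9, [4], 3)]),
  (8, 3, [5, 4, 3, 1, 2, 0, 3], [-1, 0, 1, -1, 1, 0], [(9, [], 3), (10, [2], 3), (12, [], 3), (8, [], 3), (13, [], 3), (10, [4], 3)]),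
  (9, 4, [5, 4, 3, 1, 2, 3, 4], [1, 0, 0, 0, -1, 1], [(13, [], 4), (11, [2], 4), (11, [1], 4), (11, [3], 4), (9, [], 4), (14, [], 4)]),
  (10, 2, [5, 4, 3, 1, 2, 0, 3, 2], [0, 0, -1, 0, 1, 0], [(12, [1], 2), (12, [2], 2), (10, [], 2), (12, [0], 2), (15, [], 2), (12, [4], 2)]),
  (10, 4, [5, 4, 3, 1, 2, 0, 3, 4], [-1, 0, 1, 0, -1, 1], [(11, [], 4), (13, [2], 4), (15, [], 4), (13, [3], 4), (10, [], 4), (16, [], 4)]),
  (11, 5, [5, 4, 3, 1, 2, 3, 4, 5], [1, 0, 0, 0, 0, -1], [(16, [], 5), (14, [2], 5), (14, [1], 5), (14, [3], 5), (14, [4], 5), (11, [], 5)]),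
  (12, 4, [5, 4, 3, 1, 2, 0, 3, 2, 4], [0, 0, -1, 1, -1, 1], [(15, [1], 4), (15, [2], 4), (13, [], 4), (17, [], 4), (12, [], 4), (18, [], 4)]),
  (13, 5, [5, 4, 3, 1, 2, 0, 3, 4, 5], [-1, 0, 1, 0, 0, -1], [(14, [], 5), (16, [2], 5), (18, [], 5), (16, [3], 5), (16, [4], 5), (13, [], 5)]),
  (15, 3, [5, 4, 3, 1, 2, 0, 3, 2, 4, 3], [0, 1, 0, -1, 0, 1], [(17, [1], 3), (19, [], 3), (17, [3], 3), (15, [], 3), (17, [0], 3), (20, [], 3)]),
  (15, 5, [5, 4, 3, 1, 2, 0, 3, 2, 4, 5], [0, 0, -1, 1, 0, -1], [(18, [1], 5), (18, [2], 5), (16, [], 5), (20, [], 5), (18, [4], 5), (15, [], 5)]),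
  (17, 1, [5, 4, 3, 1, 2, 0, 3, 2, 4, 3, 1], [0, -1, 0, 0, 0, 1], [(19, [1], 1), (17, [], 1), (19, [3], 1), (19, [2], 1), (19, [0], 1), (21, [], 1)]),
  (17, 5, [5, 4, 3, 1, 2, 0, 3, 2, 4, 3, 5], [0, 1, 0, -1, 1, -1], [(20, [1], 5), (21, [], 5), (20, [3], 5), (18, [], 5), (22, [], 5), (17, [], 5)]),
  (19, 5, [5, 4, 3, 1, 2, 0, 3, 2, 4, 3, 1, 5], [0, -1, 0, 0, 1, -1], [(21, [1], 5), (20, [], 5), (21, [3], 5), (21, [2], 5), (23, [], 5), (19, [], 5)]),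
  (20, 4, [5, 4, 3, 1, 2, 0, 3, 2, 4, 3, 5, 4], [0, 1, 0, 0, -1, 0], [(22, [1], 4), (23, [], 4), (22, [3], 4), (22, [4], 4), (20, [], 4), (22, [0], 4)]),
  (21, 4, [5, 4, 3, 1, 2, 0, 3, 2, 4, 3, 1, 5, 4], [0, -1, 0, 1, -1, 0], [(23, [1], 4), (22, [], 4), (23, [3], 4), (24, [], 4), (21, [], 4), (23, [0], 4)]),
  (23, 3, [5, 4, 3, 1, 2, 0, 3, 2, 4, 3, 1, 5, 4, 3], [0, 0, 1, -1, 0, 0], [(24, [1], 3), (24, [4], 3), (25, [], 3), (23, [], 3), (24, [2], 3), (24, [0], 3)]),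
  (24, 2, [5, 4, 3, 1, 2, 0, 3, 2, 4, 3, 1, 5, 4, 3, 2], [1, 0, -1, 0, 0, 0], [(26, [], 2), (25, [4], 2), (24, [], 2), (25, [3], 2), (25, [2], 2), (25, [0], 2)]),
  (25, 0, [5, 4, 3, 1, 2, 0, 3, 2, 4, 3, 1, 5, 4, 3, 2, 0], [-1, 0, 0, 0, 0, 0], [(25, [], 0), (26, [4], 0), (26, [1], 0), (26, [3], 0), (26, [2], 0), (26, [0], 0)])]

theorem table6_cosetTest : cosetTest table6 CoxeterMatrix.E₆ [0, 1, 2, 3, 4, 5] [0, 1, 2, 3, 4] = true := by
  decide +kernel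

theorem table6_vecTest : vecTest cartan table6 [0, 1, 2, 3, 4] = true := by
  decide +kernel

/-- The Weyl group of type E6 has order 51840 and its reflection representation is faithful. -/
theorem card_and_faithful : Finite CoxeterMatrix.E₆.Group ∧ Nat.card CoxeterMatrix.E₆.Group = 51840 ∧
    Function.Injective (rep cartan_repTest) := by
  have h0 := chainOK_nil cartan_repTest
  have h1 := chainOK_step h0 table1_cosetTest table1_vecTest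
  have h2 := chainOK_step h1 table2_cosetTest table2_vecTest
  have h3 := chainOK_step h2 table3_cosetTest table3_vecTest
  have h4 := chainOK_step h3 table4_cosetTest table4_vecTest
  have h5 := chainOK_step h4 table5_cosetTest table5_vecTest
  have h6 := chainOK_step h5 table6_cosetTest table6_vecTest
  have he : table6.length * (table5.length * (table4.length * (table3.length * (table2.length * (table1.length * (1)))))) = 51840 := by decide +kernel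
  rw [he] at h6
  exact chainOK_top h6 (by decide)

end CfsgLib.Weyl.E6
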