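import Cfsg.Agent.Lib.Weyl.Rep
import Mathlib.GroupTheory.Coxeter.Matrix

/-!
Certificates for the Coxeter group of type E8: order, faithful integral representation.
-/

set_option autoImplicit false

namespace CfsgLib.Weyl.E8

/-- The Cartan matrix of type E8. -/
def cartan : List (List ℤ) := [[2, 0, -1, 0, 0, 0, 0, 0], [0, 2, 0, -1, 0, 0, 0, 0], [-1, 0, 2, -1, 0, 0, 0, 0], [0, -1, -1, 2, -1, 0, 0, 0], [0, 0, 0, -1, 2, -1, 0, 0], [0, 0, 0, 0, -1, 2, -1, 0], [0, 0, 0, 0, 0, -1, 2, -1], [0, 0, 0, 0, 0, 0, -1, 2]]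

theorem cartan_repTest : repTest cartan CoxeterMatrix.E₈ = true := by decide +kernel

/-- Cosets of the parabolic subgroup of the first 0 nodes in that of the first 1. -/
def table1 : List (Node 8) := [
  (0, 0, [], [1, 0, 0, 0, 0, 0, 0, 0], [(1, [], 0), (0, [], 0), (0, [], 0), (0, [], 0), (0, [], 0), (0, [], 0), (0, [], 0), (0, [], 0)]),
  (0, 0, [0], [-1, 0, 1, 0, 0, 0, 0, 0], [(0, [], 0), (0, [], 0), (0, [], 0), (0, [], 0), (0, [], 0), (0, [], 0), (0, [], 0), (0, [], 0)])]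

theorem table1_cosetTest : cosetTest table1 CoxeterMatrix.E₈ [0] [] = true := by
  decide +kernel

theorem table1_vecTest : vecTest cartan table1 [] = true := by
  decide +kernel

/-- Cosets of the parabolic subgroup of the first 1 nodes in that of the first 2. -/
def table2 : List (Node 8) := [
  (0, 0, [], [0, 1, 0, 0, 0, 0, 0, 0], [(0, [0], 0), (1, [], 0), (0, [], 0), (0, [], 0), (0, [], 0), (0, [], 0), (0, [], 0), (0, [], 0)]),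
  (0, 1, [1], [0, -1, 0, 1, 0, 0, 0, 0], [(1, [0], 1), (0, [], 1), (0, [], 0), (0, [], 0), (0, [], 0), (0, [], 0), (0, [], 0), (0, [], 0)])]

theorem table2_cosetTest : cosetTest table2 CoxeterMatrix.E₈ [0, 1] [0] = true := by
  decide +kernel

theorem table2_vecTest : vecTest cartan table2 [0] = true := by
  decide +kernel

/-- Cosets of the parabolic subgroup of the first 2 nodes in that of the first 3. -/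
def table3 : List (Node 8) := [
  (0, 0, [], [0, 0, 1, 0, 0, 0, 0, 0], [(0, [0], 0), (0, [1], 0), (1, [], 0), (0, [], 0), (0, [], 0), (0, [], 0), (0, [], 0), (0, [], 0)]),
  (0, 2, [2], [1, 0, -1, 1, 0, 0, 0, 0], [(2, [], 2), (1, [1], 2), (0, [], 2), (0, [], 0), (0, [], 0), (0, [], 0), (0, [], 0), (0, [], 0)]),
  (1, 0, [2, 0], [-1, 0, 0, 1, 0, 0, 0, 0], [(1, [], 0), (2, [1], 0), (2, [0], 0), (0, [], 0), (0, [], 0), (0, [], 0), (0, [], 0), (0, [], 0)])]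

theorem table3_cosetTest : cosetTest table3 CoxeterMatrix.E₈ [0, 1, 2] [0, 1] = true := by
  decide +kernel

theorem table3_vecTest : vecTest cartan table3 [0, 1] = true := by
  decide +kernel

/-- Cosets of the parabolic subgroup of the first 3 nodes in that of the first 4. -/
def table4 : List (Node 8) := [
  (0, 0, [], [0, 0, 0, 1, 0, 0, 0, 0], [(0, [0], 0), (0, [1], 0), (0, [2], 0), (1, [], 0), (0, [], 0), (0, [], 0), (0, [], 0), (0, [], 0)]),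
  (0, 3, [3], [0, 1, 1, -1, 1, 0, 0, 0], [(1, [0], 3), (2, [], 3), (3, [], 3), (0, [], 3), (0, [], 0), (0, [], 0), (0, [], 0), (0, [], 0)]),
  (1, 1, [3, 1], [0, -1, 1, 0, 1, 0, 0, 0], [(2, [0], 1), (1, [], 1), (4, [], 1), (2, [1], 1), (0, [], 0), (0, [], 0), (0, [], 0), (0, [], 0)]),
  (1, 2, [3, 2], [1, 1, -1, 0, 1, 0, 0, 0], [(5, [], 2), (4, [], 2), (1, [], 2), (3, [2], 2), (0, [], 0), (0, [], 0), (0, [], 0), (0, [], 0)]),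
  (2, 2, [3, 1, 2], [1, -1, -1, 1, 1, 0, 0, 0], [(6, [], 2), (3, [], 2), (2, [], 2), (7, [], 2), (0, [], 0), (0, [], 0), (0, [], 0), (0, [], 0)]),
  (3, 0, [3, 2, 0], [-1, 1, 0, 0, 1, 0, 0, 0], [(3, [], 0), (6, [], 0), (5, [0], 0), (5, [2], 0), (0, [], 0), (0, [], 0), (0, [], 0), (0, [], 0)]),
  (4, 0, [3, 1, 2, 0], [-1, -1, 0, 1, 1, 0, 0, 0], [(4, [], 0), (5, [], 0), (6, [0], 0), (8, [], 0), (0, [], 0), (0, [], 0), (0, [], 0), (0, [], 0)]),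
  (4, 3, [3, 1, 2, 3], [1, 0, 0, -1, 2, 0, 0, 0], [(8, [], 3), (7, [2], 3), (7, [1], 3), (4, [], 3), (0, [], 0), (0, [], 0), (0, [], 0), (0, [], 0)]),
  (6, 3, [3, 1, 2, 0, 3], [-1, 0, 1, -1, 2, 0, 0, 0], [(7, [], 3), (8, [2], 3), (9, [], 3), (6, [], 3), (0, [], 0), (0, [], 0), (0, [], 0), (0, [], 0)]),
  (8, 2, [3, 1, 2, 0, 3, 2], [0, 0, -1, 0, 2, 0, 0, 0], [(9, [1], 2), (9, [2], 2), (8, [], 2), (9, [0], 2), (0, [], 0), (0, [], 0), (0, [], 0), (0, [], 0)])]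

theorem table4_cosetTest : cosetTest table4 CoxeterMatrix.E₈ [0, 1, 2, 3] [0, 1, 2] = true := by
  decide +kernel

theorem table4_vecTest : vecTest cartan table4 [0, 1, 2] = true := by
  decide +kernel

/-- Cosets of the parabolic subgroup of the first 4 nodes in that of the first 5. -/
def table5 : List (Node 8) := [
  (0, 0, [], [0, 0, 0, 0, 1, 0, 0, 0], [(0, [0], 0), (0, [1], 0), (0, [2], 0), (0, [3], 0), (1, [], 0), (0, [], 0), (0, [], 0), (0, [], 0)]),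
  (0, 4, [4], [0, 0, 0, 1, -1, 1, 0, 0], [(1, [0], 4), (1, [1], 4), (1, [2], 4), (2, [], 4), (0, [], 4), (0, [], 0), (0, [], 0), (0, [], 0)]),
  (1, 3, [4, 3], [0, 1, 1, -1, 0, 1, 0, 0], [(2, [0], 3), (3, [], 3), (4, [], 3), (1, [], 3), (2, [3], 3), (0, [], 0), (0, [], 0), (0, [], 0)]),
  (2, 1, [4, 3, 1], [0, -1, 1, 0, 0, 1, 0, 0], [(3, [0], 1), (2, [], 1), (5, [], 1), (3, [1], 1), (3, [3], 1), (0, [], 0), (0, [], 0), (0, [], 0)]),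
  (2, 2, [4, 3, 2], [1, 1, -1, 0, 0, 1, 0, 0], [(6, [], 2), (5, [], 2), (2, [], 2), (4, [2], 2), (4, [3], 2), (0, [], 0), (0, [], 0), (0, [], 0)]),
  (3, 2, [4, 3, 1, 2], [1, -1, -1, 1, 0, 1, 0, 0], [(7, [], 2), (4, [], 2), (3, [], 2), (8, [], 2), (5, [3], 2), (0, [], 0), (0, [], 0), (0, [], 0)]),
  (4, 0, [4, 3, 2, 0], [-1, 1, 0, 0, 0, 1, 0, 0], [(4, [], 0), (7, [], 0), (6, [0], 0), (6, [2], 0), (6, [3], 0), (0, [], 0), (0, [], 0), (0, [], 0)]),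
  (5, 0, [4, 3, 1, 2, 0], [-1, -1, 0, 1, 0, 1, 0, 0], [(5, [], 0), (6, [], 0), (7, [0], 0), (9, [], 0), (7, [3], 0), (0, [], 0), (0, [], 0), (0, [], 0)]),
  (5, 3, [4, 3, 1, 2, 3], [1, 0, 0, -1, 1, 1, 0, 0], [(9, [], 3), (8, [2], 3), (8, [1], 3), (5, [], 3), (10, [], 3), (0, [], 0), (0, [], 0), (0, [], 0)]),
  (7, 3, [4, 3, 1, 2, 0, 3], [-1, 0, 1, -1, 1, 1, 0, 0], [(8, [], 3), (9, [2], 3), (11, [], 3), (7, [], 3), (12, [], 3), (0, [], 0), (0, [], 0), (0, [], 0)]),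
  (8, 4, [4, 3, 1, 2, 3, 4], [1, 0, 0, 0, -1, 2, 0, 0], [(12, [], 4), (10, [2], 4), (10, [1], 4), (10, [3], 4), (8, [], 4), (0, [], 0), (0, [], 0), (0, [], 0)]),
  (9, 2, [4, 3, 1, 2, 0, 3, 2], [0, 0, -1, 0, 1, 1, 0, 0], [(11, [1], 2), (11, [2], 2), (9, [], 2), (11, [0], 2), (13, [], 2), (0, [], 0), (0, [], 0), (0, [], 0)]),
  (9, 4, [4, 3, 1, 2, 0, 3, 4], [-1, 0, 1, 0, -1, 2, 0, 0], [(10, [], 4), (12, [2], 4), (13, [], 4), (12, [3], 4), (9, [], 4), (0, [], 0), (0, [], 0), (0, [], 0)]),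
  (11, 4, [4, 3, 1, 2, 0, 3, 2, 4], [0, 0, -1, 1, -1, 2, 0, 0], [(13, [1], 4), (13, [2], 4), (12, [], 4), (14, [], 4), (11, [], 4), (0, [], 0), (0, [], 0), (0, [], 0)]),
  (13, 3, [4, 3, 1, 2, 0, 3, 2, 4, 3], [0, 1, 0, -1, 0, 2, 0, 0], [(14, [1], 3), (15, [], 3), (14, [3], 3), (13, [], 3), (14, [0], 3), (0, [], 0), (0, [], 0), (0, [], 0)]),
  (14, 1, [4, 3, 1, 2, 0, 3, 2, 4, 3, 1], [0, -1, 0, 0, 0, 2, 0, 0], [(15, [1], 1), (14, [], 1), (15, [3], 1), (15, [2], 1), (15, [0], 1), (0, [], 0), (0, [], 0), (0, [], 0)])]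

theorem table5_cosetTest : cosetTest table5 CoxeterMatrix.E₈ [0, 1, 2, 3, 4] [0, 1, 2, 3] = true := by
  decide +kernel

theorem table5_vecTest : vecTest cartan table5 [0, 1, 2, 3] = true := by
  decide +kernel

/-- Cosets of the parabolic subgroup of the first 5 nodes in that of the first 6. -/
def table6 : List (Node 8) := [
  (0, 0, [], [0, 0, 0, 0, 0, 1, 0, 0], [(0, [0], 0), (0, [1], 0), (0, [2], 0), (0, [3], 0), (0, [4], 0), (1, [], 0), (0, [], 0), (0, [], 0)]),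
  (0, 5, [5], [0, 0, 0, 0, 1, -1, 1, 0], [(1, [0], 5), (1, [1], 5), (1, [2], 5), (1, [3], 5), (2, [], 5), (0, [], 5), (0, [], 0), (0, [], 0)]),
  (1, 4, [5, 4], [0, 0, 0, 1, -1, 0, 1, 0], [(2, [0], 4), (2, [1], 4), (2, [2], 4), (3, [], 4), (1, [], 4), (2, [4], 4), (0, [], 0), (0, [], 0)]),
  (2, 3, [5, 4, 3], [0, 1, 1, -1, 0, 0, 1, 0], [(3, [0], 3), (4, [], 3), (5, [], 3), (2, [], 3), (3, [3], 3), (3, [4], 3), (0, [], 0), (0, [], 0)]),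
  (3, 1, [5, 4, 3, 1], [0, -1, 1, 0, 0, 0, 1, 0], [(4, [0], 1), (3, [], 1), (6, [], 1), (4, [1], 1), (4, [3], 1), (4, [4], 1), (0, [], 0), (0, [], 0)]),
  (3, 2, [5, 4, 3, 2], [1, 1, -1, 0, 0, 0, 1, 0], [(7, [], 2), (6, [], 2), (3, [], 2), (5, [2], 2), (5, [3], 2), (5, [4], 2), (0, [], 0), (0, [], 0)]),
  (4, 2, [5, 4, 3, 1, 2], [1, -1, -1, 1, 0, 0, 1, 0], [(8, [], 2), (5, [], 2), (4, [], 2), (9, [], 2), (6, [3], 2), (6, [4], 2), (0, [], 0), (0, [], 0)]),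
  (5, 0, [5, 4, 3, 2, 0], [-1, 1, 0, 0, 0, 0, 1, 0], [(5, [], 0), (8, [], 0), (7, [0], 0), (7, [2], 0), (7, [3], 0), (7, [4], 0), (0, [], 0), (0, [], 0)]),
  (6, 0, [5, 4, 3, 1, 2, 0], [-1, -1, 0, 1, 0, 0, 1, 0], [(6, [], 0), (7, [], 0), (8, [0], 0), (10, [], 0), (8, [3], 0), (8, [4], 0), (0, [], 0), (0, [], 0)]),
  (6, 3, [5, 4, 3, 1, 2, 3], [1, 0, 0, -1, 1, 0, 1, 0], [(10, [], 3), (9, [2], 3), (9, [1], 3), (6, [], 3), (11, [], 3), (9, [4], 3), (0, [], 0), (0, [], 0)]),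
  (8, 3, [5, 4, 3, 1, 2, 0, 3], [-1, 0, 1, -1, 1, 0, 1, 0], [(9, [], 3), (10, [2], 3), (12, [], 3), (8, [], 3), (13, [], 3), (10, [4], 3), (0, [], 0), (0, [], 0)]),
  (9, 4, [5, 4, 3, 1, 2, 3, 4], [1, 0, 0, 0, -1, 1, 1, 0], [(13, [], 4), (11, [2], 4), (11, [1], 4), (11, [3], 4), (9, [], 4), (14, [], 4), (0, [], 0), (0, [], 0)]),
  (10, 2, [5, 4, 3, 1, 2, 0, 3, 2], [0, 0, -1, 0, 1, 0, 1, 0], [(12, [1], 2), (12, [2], 2), (10, [], 2), (12, [0], 2), (15, [], 2), (12, [4], 2), (0, [], 0), (0, [], 0)]),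
  (10, 4, [5, 4, 3, 1, 2, 0, 3, 4], [-1, 0, 1, 0, -1, 1, 1, 0], [(11, [], 4), (13, [2], 4), (15, [], 4), (13, [3], 4), (10, [], 4), (16, [], 4), (0, [], 0), (0, [], 0)]),
  (11, 5, [5, 4, 3, 1, 2, 3, 4, 5], [1, 0, 0, 0, 0, -1, 2, 0], [(16, [], 5), (14, [2], 5), (14, [1], 5), (14, [3], 5), (14, [4], 5), (11, [], 5), (0, [], 0), (0, [], 0)]),
  (12, 4, [5, 4, 3, 1, 2, 0, 3, 2, 4], [0, 0, -1, 1, -1, 1, 1, 0], [(15, [1], 4), (15, [2], 4), (13, [], 4), (17, [], 4), (12, [], 4), (18, [], 4), (0, [], 0), (0, [], 0)]),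
  (13, 5, [5, 4, 3, 1, 2, 0, 3, 4, 5], [-1, 0, 1, 0, 0, -1, 2, 0], [(14, [], 5), (16, [2], 5), (18, [], 5), (16, [3], 5), (16, [4], 5), (13, [], 5), (0, [], 0), (0, [], 0)]),
  (15, 3, [5, 4, 3, 1, 2, 0, 3, 2, 4, 3], [0, 1, 0, -1, 0, 1, 1, 0], [(17, [1], 3), (19, [], 3), (17, [3], 3), (15, [], 3), (17, [0], 3), (20, [], 3), (0, [], 0), (0, [], 0)]),
  (15, 5, [5, 4, 3, 1, 2, 0, 3, 2, 4, 5], [0, 0, -1, 1, 0, -1, 2, 0], [(18, [1], 5), (18, [2], 5), (16, [], 5), (20, [], 5), (18, [4], 5), (15, [], 5), (0, [], 0), (0, [], 0)]),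
  (17, 1, [5, 4, 3, 1, 2, 0, 3, 2, 4, 3, 1], [0, -1, 0, 0, 0, 1, 1, 0], [(19, [1], 1), (17, [], 1), (19, [3], 1), (19, [2], 1), (19, [0], 1), (21, [], 1), (0, [], 0), (0, [], 0)]),
  (17, 5, [5, 4, 3, 1, 2, 0, 3, 2, 4, 3, 5], [0, 1, 0, -1, 1, -1, 2, 0], [(20, [1], 5), (21, [], 5), (20, [3], 5), (18, [], 5), (22, [], 5), (17, [], 5), (0, [], 0), (0, [], 0)]),
  (19, 5, [5, 4, 3, 1, 2, 0, 3, 2, 4, 3, 1, 5], [0, -1, 0, 0, 1, -1, 2, 0], [(21, [1], 5), (20, [], 5), (21, [3], 5), (21, [2], 5), (23, [], 5), (19, [], 5), (0, [], 0), (0, [], 0)]),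
  (20, 4, [5, 4, 3, 1, 2, 0, 3, 2, 4, 3, 5, 4], [0, 1, 0, 0, -1, 0, 2, 0], [(22, [1], 4), (23, [], 4), (22, [3], 4), (22, [4], 4), (20, [], 4), (22, [0], 4), (0, [], 0), (0, [], 0)]),
  (21, 4, [5, 4, 3, 1, 2, 0, 3, 2, 4, 3, 1, 5, 4], [0, -1, 0, 1, -1, 0, 2, 0], [(23, [1], 4), (22, [], 4), (23, [3], 4), (24, [], 4), (21, [], 4), (23, [0], 4), (0, [], 0), (0, [], 0)]),
  (23, 3, [5, 4, 3, 1, 2, 0, 3, 2, 4, 3, 1, 5, 4, 3], [0, 0, 1, -1, 0, 0, 2, 0], [(24, [1], 3), (24, [4], 3), (25, [], 3), (23, [], 3), (24, [2], 3), (24, [0], 3), (0, [], 0), (0, [], 0)]),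
  (24, 2, [5, 4, 3, 1, 2, 0, 3, 2, 4, 3, 1, 5, 4, 3, 2], [1, 0, -1, 0, 0, 0, 2, 0], [(26, [], 2), (25, [4], 2), (24, [], 2), (25, [3], 2), (25, [2], 2), (25, [0], 2), (0, [], 0), (0, [], 0)]),
  (25, 0, [5, 4, 3, 1, 2, 0, 3, 2, 4, 3, 1, 5, 4, 3, 2, 0], [-1, 0, 0, 0, 0, 0, 2, 0], [(25, [], 0), (26, [4], 0), (26, [1], 0), (26, [3], 0), (26, [2], 0), (26, [0], 0), (0, [], 0), (0, [], 0)])]

theorem table6_cosetTest : cosetTest table6 CoxeterMatrix.E₈ [0, 1, 2, 3, 4, 5] [0, 1, 2, 3, 4] = true := by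
  decide +kernel

theorem table6_vecTest : vecTest cartan table6 [0, 1, 2, 3, 4] = true := by
  decide +kernel

/-- Part 0 of `table7`. -/
def table7Part0 : List (Node 8) := [
  (0, 0, [], [0, 0, 0, 0, 0, 0, 1, 0], [(0, [0], 0), (0, [1], 0), (0, [2], 0), (0, [3], 0), (0, [4], 0), (0, [5], 0), (1, [], 0), (0, [], 0)]),
  (0, 6, [6], [0, 0, 0, 0, 0, 1, -1, 1], [(1, [0], 6), (1, [1], 6), (1, [2], 6), (1, [3], 6), (1, [4], 6), (2, [], 6), (0, [], 6), (0, [], 0)]),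
  (1, 5, [6, 5], [0, 0, 0, 0, 1, -1, 0, 1], [(2, [0], 5), (2, [1], 5), (2, [2], 5), (2, [3], 5), (3, [], 5), (1, [], 5), (2, [5], 5), (0, [], 0)]),
  (2, 4, [6, 5, 4], [0, 0, 0, 1, -1, 0, 0, 1], [(3, [0], 4), (3, [1], 4), (3, [2], 4), (4, [], 4), (2, [], 4), (3, [4], 4), (3, [5], 4), (0, [], 0)]),
  (3, 3, [6, 5, 4, 3], [0, 1, 1, -1, 0, 0, 0, 1], [(4, [0], 3), (5, [], 3), (6, [], 3), (3, [], 3), (4, [3], 3), (4, [4], 3), (4, [5], 3), (0, [], 0)]),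
  (4, 1, [6, 5, 4, 3, 1], [0, -1, 1, 0, 0, 0, 0, 1], [(5, [0], 1), (4, [], 1), (7, [], 1), (5, [1], 1), (5, [3], 1), (5, [4], 1), (5, [5], 1), (0, [], 0)]),
  (4, 2, [6, 5, 4, 3, 2], [1, 1, -1, 0, 0, 0, 0, 1], [(8, [], 2), (7, [], 2), (4, [], 2), (6, [2], 2), (6, [3], 2), (6, [4], 2), (6, [5], 2), (0, [], 0)]),
  (5, 2, [6, 5, 4, 3, 1, 2], [1, -1, -1, 1, 0, 0, 0, 1], [(9, [], 2), (6, [], 2), (5, [], 2), (10, [], 2), (7, [3], 2), (7, [4], 2), (7, [5], 2), (0, [], 0)]),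
  (6, 0, [6, 5, 4, 3, 2, 0], [-1, 1, 0, 0, 0, 0, 0, 1], [(6, [], 0), (9, [], 0), (8, [0], 0), (8, [2], 0), (8, [3], 0), (8, [4], 0), (8, [5], 0), (0, [], 0)]),
  (7, 0, [6, 5, 4, 3, 1, 2, 0], [-1, -1, 0, 1, 0, 0, 0, 1], [(7, [], 0), (8, [], 0), (9, [0], 0), (11, [], 0), (9, [3], 0), (9, [4], 0), (9, [5], 0), (0, [], 0)])]

/-- Part 1 of `table7`. -/
def table7Part1 : List (Node 8) := [
  (7, 3, [6, 5, 4, 3, 1, 2, 3], [1, 0, 0, -1, 1, 0, 0, 1], [(11, [], 3), (10, [2], 3), (10, [1], 3), (7, [], 3), (12, [], 3), (10, [4], 3), (10, [5], 3), (0, [], 0)]),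
  (9, 3, [6, 5, 4, 3, 1, 2, 0, 3], [-1, 0, 1, -1, 1, 0, 0, 1], [(10, [], 3), (11, [2], 3), (13, [], 3), (9, [], 3), (14, [], 3), (11, [4], 3), (11, [5], 3), (0, [], 0)]),
  (10, 4, [6, 5, 4, 3, 1, 2, 3, 4], [1, 0, 0, 0, -1, 1, 0, 1], [(14, [], 4), (12, [2], 4), (12, [1], 4), (12, [3], 4), (10, [], 4), (15, [], 4), (12, [5], 4), (0, [], 0)]),
  (11, 2, [6, 5, 4, 3, 1, 2, 0, 3, 2], [0, 0, -1, 0, 1, 0, 0, 1], [(13, [1], 2), (13, [2], 2), (11, [], 2), (13, [0], 2), (16, [], 2), (13, [4], 2), (13, [5], 2), (0, [], 0)]),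
  (11, 4, [6, 5, 4, 3, 1, 2, 0, 3, 4], [-1, 0, 1, 0, -1, 1, 0, 1], [(12, [], 4), (14, [2], 4), (16, [], 4), (14, [3], 4), (11, [], 4), (17, [], 4), (14, [5], 4), (0, [], 0)]),
  (12, 5, [6, 5, 4, 3, 1, 2, 3, 4, 5], [1, 0, 0, 0, 0, -1, 1, 1], [(17, [], 5), (15, [2], 5), (15, [1], 5), (15, [3], 5), (15, [4], 5), (12, [], 5), (18, [], 5), (0, [], 0)]),
  (13, 4, [6, 5, 4, 3, 1, 2, 0, 3, 2, 4], [0, 0, -1, 1, -1, 1, 0, 1], [(16, [1], 4), (16, [2], 4), (14, [], 4), (19, [], 4), (13, [], 4), (20, [], 4), (16, [5], 4), (0, [], 0)]),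
  (14, 5, [6, 5, 4, 3, 1, 2, 0, 3, 4, 5], [-1, 0, 1, 0, 0, -1, 1, 1], [(15, [], 5), (17, [2], 5), (20, [], 5), (17, [3], 5), (17, [4], 5), (14, [], 5), (21, [], 5), (0, [], 0)]),
  (15, 6, [6, 5, 4, 3, 1, 2, 3, 4, 5, 6], [1, 0, 0, 0, 0, 0, -1, 2], [(21, [], 6), (18, [2], 6), (18, [1], 6), (18, [3], 6), (18, [4], 6), (18, [5], 6), (15, [], 6), (0, [], 0)]),
  (16, 3, [6, 5, 4, 3, 1, 2, 0, 3, 2, 4, 3], [0, 1, 0, -1, 0, 1, 0, 1], [(19, [1], 3), (22, [], 3), (19, [3], 3), (16, [], 3), (19, [0], 3), (23, [], 3), (19, [5], 3), (0, [], 0)])]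

/-- Part 2 of `table7`. -/
def table7Part2 : List (Node 8) := [
  (16, 5, [6, 5, 4, 3, 1, 2, 0, 3, 2, 4, 5], [0, 0, -1, 1, 0, -1, 1, 1], [(20, [1], 5), (20, [2], 5), (17, [], 5), (23, [], 5), (20, [4], 5), (16, [], 5), (24, [], 5), (0, [], 0)]),
  (17, 6, [6, 5, 4, 3, 1, 2, 0, 3, 4, 5, 6], [-1, 0, 1, 0, 0, 0, -1, 2], [(18, [], 6), (21, [2], 6), (24, [], 6), (21, [3], 6), (21, [4], 6), (21, [5], 6), (17, [], 6), (0, [], 0)]),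
  (19, 1, [6, 5, 4, 3, 1, 2, 0, 3, 2, 4, 3, 1], [0, -1, 0, 0, 0, 1, 0, 1], [(22, [1], 1), (19, [], 1), (22, [3], 1), (22, [2], 1), (22, [0], 1), (25, [], 1), (22, [5], 1), (0, [], 0)]),
  (19, 5, [6, 5, 4, 3, 1, 2, 0, 3, 2, 4, 3, 5], [0, 1, 0, -1, 1, -1, 1, 1], [(23, [1], 5), (25, [], 5), (23, [3], 5), (20, [], 5), (26, [], 5), (19, [], 5), (27, [], 5), (0, [], 0)]),
  (20, 6, [6, 5, 4, 3, 1, 2, 0, 3, 2, 4, 5, 6], [0, 0, -1, 1, 0, 0, -1, 2], [(24, [1], 6), (24, [2], 6), (21, [], 6), (27, [], 6), (24, [4], 6), (24, [5], 6), (20, [], 6), (0, [], 0)]),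
  (22, 5, [6, 5, 4, 3, 1, 2, 0, 3, 2, 4, 3, 1, 5], [0, -1, 0, 0, 1, -1, 1, 1], [(25, [1], 5), (23, [], 5), (25, [3], 5), (25, [2], 5), (28, [], 5), (22, [], 5), (29, [], 5), (0, [], 0)]),
  (23, 4, [6, 5, 4, 3, 1, 2, 0, 3, 2, 4, 3, 5, 4], [0, 1, 0, 0, -1, 0, 1, 1], [(26, [1], 4), (28, [], 4), (26, [3], 4), (26, [4], 4), (23, [], 4), (26, [0], 4), (30, [], 4), (0, [], 0)]),
  (23, 6, [6, 5, 4, 3, 1, 2, 0, 3, 2, 4, 3, 5, 6], [0, 1, 0, -1, 1, 0, -1, 2], [(27, [1], 6), (29, [], 6), (27, [3], 6), (24, [], 6), (30, [], 6), (27, [5], 6), (23, [], 6), (0, [], 0)]),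
  (25, 4, [6, 5, 4, 3, 1, 2, 0, 3, 2, 4, 3, 1, 5, 4], [0, -1, 0, 1, -1, 0, 1, 1], [(28, [1], 4), (26, [], 4), (28, [3], 4), (31, [], 4), (25, [], 4), (28, [0], 4), (32, [], 4), (0, [], 0)]),
  (25, 6, [6, 5, 4, 3, 1, 2, 0, 3, 2, 4, 3, 1, 5, 6], [0, -1, 0, 0, 1, 0, -1, 2], [(29, [1], 6), (27, [], 6), (29, [3], 6), (29, [2], 6), (32, [], 6), (29, [5], 6), (25, [], 6), (0, [], 0)])]

/-- Part 3 of `table7`. -/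
def table7Part3 : List (Node 8) := [
  (26, 6, [6, 5, 4, 3, 1, 2, 0, 3, 2, 4, 3, 5, 4, 6], [0, 1, 0, 0, -1, 1, -1, 2], [(30, [1], 6), (32, [], 6), (30, [3], 6), (30, [4], 6), (27, [], 6), (33, [], 6), (26, [], 6), (0, [], 0)]),
  (28, 3, [6, 5, 4, 3, 1, 2, 0, 3, 2, 4, 3, 1, 5, 4, 3], [0, 0, 1, -1, 0, 0, 1, 1], [(31, [1], 3), (31, [4], 3), (34, [], 3), (28, [], 3), (31, [2], 3), (31, [0], 3), (35, [], 3), (0, [], 0)]),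
  (28, 6, [6, 5, 4, 3, 1, 2, 0, 3, 2, 4, 3, 1, 5, 4, 6], [0, -1, 0, 1, -1, 1, -1, 2], [(32, [1], 6), (30, [], 6), (32, [3], 6), (35, [], 6), (29, [], 6), (36, [], 6), (28, [], 6), (0, [], 0)]),
  (30, 5, [6, 5, 4, 3, 1, 2, 0, 3, 2, 4, 3, 5, 4, 6, 5], [0, 1, 0, 0, 0, -1, 0, 2], [(33, [1], 5), (36, [], 5), (33, [3], 5), (33, [4], 5), (33, [5], 5), (30, [], 5), (33, [0], 5), (0, [], 0)]),
  (31, 2, [6, 5, 4, 3, 1, 2, 0, 3, 2, 4, 3, 1, 5, 4, 3, 2], [1, 0, -1, 0, 0, 0, 1, 1], [(37, [], 2), (34, [4], 2), (31, [], 2), (34, [3], 2), (34, [2], 2), (34, [0], 2), (38, [], 2), (0, [], 0)]),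
  (31, 6, [6, 5, 4, 3, 1, 2, 0, 3, 2, 4, 3, 1, 5, 4, 3, 6], [0, 0, 1, -1, 0, 1, -1, 2], [(35, [1], 6), (35, [4], 6), (38, [], 6), (32, [], 6), (35, [2], 6), (39, [], 6), (31, [], 6), (0, [], 0)]),
  (32, 5, [6, 5, 4, 3, 1, 2, 0, 3, 2, 4, 3, 1, 5, 4, 6, 5], [0, -1, 0, 1, 0, -1, 0, 2], [(36, [1], 5), (33, [], 5), (36, [3], 5), (39, [], 5), (36, [5], 5), (32, [], 5), (36, [0], 5), (0, [], 0)]),
  (34, 0, [6, 5, 4, 3, 1, 2, 0, 3, 2, 4, 3, 1, 5, 4, 3, 2, 0], [-1, 0, 0, 0, 0, 0, 1, 1], [(34, [], 0), (37, [4], 0), (37, [1], 0), (37, [3], 0), (37, [2], 0), (37, [0], 0), (40, [], 0), (0, [], 0)]),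
  (34, 6, [6, 5, 4, 3, 1, 2, 0, 3, 2, 4, 3, 1, 5, 4, 3, 2, 6], [1, 0, -1, 0, 0, 1, -1, 2], [(40, [], 6), (38, [4], 6), (35, [], 6), (38, [3], 6), (38, [2], 6), (41, [], 6), (34, [], 6), (0, [], 0)]),
  (35, 5, [6, 5, 4, 3, 1, 2, 0, 3, 2, 4, 3, 1, 5, 4, 3, 6, 5], [0, 0, 1, -1, 1, -1, 0, 2], [(39, [1], 5), (39, [4], 5), (41, [], 5), (36, [], 5), (42, [], 5), (35, [], 5), (39, [0], 5), (0, [], 0)])]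

/-- Part 4 of `table7`. -/
def table7Part4 : List (Node 8) := [
  (37, 6, [6, 5, 4, 3, 1, 2, 0, 3, 2, 4, 3, 1, 5, 4, 3, 2, 0, 6], [-1, 0, 0, 0, 0, 1, -1, 2], [(38, [], 6), (40, [4], 6), (40, [1], 6), (40, [3], 6), (40, [2], 6), (43, [], 6), (37, [], 6), (0, [], 0)]),
  (38, 5, [6, 5, 4, 3, 1, 2, 0, 3, 2, 4, 3, 1, 5, 4, 3, 2, 6, 5], [1, 0, -1, 0, 1, -1, 0, 2], [(43, [], 5), (41, [4], 5), (39, [], 5), (41, [3], 5), (44, [], 5), (38, [], 5), (41, [0], 5), (0, [], 0)]),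
  (39, 4, [6, 5, 4, 3, 1, 2, 0, 3, 2, 4, 3, 1, 5, 4, 3, 6, 5, 4], [0, 0, 1, 0, -1, 0, 0, 2], [(42, [1], 4), (42, [4], 4), (44, [], 4), (42, [5], 4), (39, [], 4), (42, [2], 4), (42, [0], 4), (0, [], 0)]),
  (40, 5, [6, 5, 4, 3, 1, 2, 0, 3, 2, 4, 3, 1, 5, 4, 3, 2, 0, 6, 5], [-1, 0, 0, 0, 1, -1, 0, 2], [(41, [], 5), (43, [4], 5), (43, [1], 5), (43, [3], 5), (45, [], 5), (40, [], 5), (43, [0], 5), (0, [], 0)]),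
  (41, 4, [6, 5, 4, 3, 1, 2, 0, 3, 2, 4, 3, 1, 5, 4, 3, 2, 6, 5, 4], [1, 0, -1, 1, -1, 0, 0, 2], [(45, [], 4), (44, [4], 4), (42, [], 4), (46, [], 4), (41, [], 4), (44, [2], 4), (44, [0], 4), (0, [], 0)]),
  (43, 4, [6, 5, 4, 3, 1, 2, 0, 3, 2, 4, 3, 1, 5, 4, 3, 2, 0, 6, 5, 4], [-1, 0, 0, 1, -1, 0, 0, 2], [(44, [], 4), (45, [4], 4), (45, [1], 4), (47, [], 4), (43, [], 4), (45, [2], 4), (45, [0], 4), (0, [], 0)]),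
  (44, 3, [6, 5, 4, 3, 1, 2, 0, 3, 2, 4, 3, 1, 5, 4, 3, 2, 6, 5, 4, 3], [1, 1, 0, -1, 0, 0, 0, 2], [(47, [], 3), (48, [], 3), (46, [5], 3), (44, [], 3), (46, [3], 3), (46, [2], 3), (46, [0], 3), (0, [], 0)]),
  (45, 3, [6, 5, 4, 3, 1, 2, 0, 3, 2, 4, 3, 1, 5, 4, 3, 2, 0, 6, 5, 4, 3], [-1, 1, 1, -1, 0, 0, 0, 2], [(46, [], 3), (49, [], 3), (50, [], 3), (45, [], 3), (47, [3], 3), (47, [2], 3), (47, [0], 3), (0, [], 0)]),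
  (46, 1, [6, 5, 4, 3, 1, 2, 0, 3, 2, 4, 3, 1, 5, 4, 3, 2, 6, 5, 4, 3, 1], [1, -1, 0, 0, 0, 0, 0, 2], [(49, [], 1), (46, [], 1), (48, [5], 1), (48, [4], 1), (48, [3], 1), (48, [2], 1), (48, [0], 1), (0, [], 0)]),
  (47, 1, [6, 5, 4, 3, 1, 2, 0, 3, 2, 4, 3, 1, 5, 4, 3, 2, 0, 6, 5, 4, 3, 1], [-1, -1, 1, 0, 0, 0, 0, 2], [(48, [], 1), (47, [], 1), (51, [], 1), (49, [4], 1), (49, [3], 1), (49, [2], 1), (49, [0], 1), (0, [], 0)])]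

/-- Part 5 of `table7`. -/
def table7Part5 : List (Node 8) := [
  (47, 2, [6, 5, 4, 3, 1, 2, 0, 3, 2, 4, 3, 1, 5, 4, 3, 2, 0, 6, 5, 4, 3, 2], [0, 1, -1, 0, 0, 0, 0, 2], [(50, [5], 2), (51, [], 2), (47, [], 2), (50, [1], 2), (50, [3], 2), (50, [2], 2), (50, [0], 2), (0, [], 0)]),
  (49, 2, [6, 5, 4, 3, 1, 2, 0, 3, 2, 4, 3, 1, 5, 4, 3, 2, 0, 6, 5, 4, 3, 1, 2], [0, -1, -1, 1, 0, 0, 0, 2], [(51, [5], 2), (50, [], 2), (49, [], 2), (52, [], 2), (51, [3], 2), (51, [2], 2), (51, [0], 2), (0, [], 0)]),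
  (51, 3, [6, 5, 4, 3, 1, 2, 0, 3, 2, 4, 3, 1, 5, 4, 3, 2, 0, 6, 5, 4, 3, 1, 2, 3], [0, 0, 0, -1, 1, 0, 0, 2], [(52, [5], 3), (52, [1], 3), (52, [4], 3), (51, [], 3), (53, [], 3), (52, [2], 3), (52, [0], 3), (0, [], 0)]),
  (52, 4, [6, 5, 4, 3, 1, 2, 0, 3, 2, 4, 3, 1, 5, 4, 3, 2, 0, 6, 5, 4, 3, 1, 2, 3, 4], [0, 0, 0, 0, -1, 1, 0, 2], [(53, [5], 4), (53, [1], 4), (53, [4], 4), (53, [3], 4), (52, [], 4), (54, [], 4), (53, [0], 4), (0, [], 0)]),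
  (53, 5, [6, 5, 4, 3, 1, 2, 0, 3, 2, 4, 3, 1, 5, 4, 3, 2, 0, 6, 5, 4, 3, 1, 2, 3, 4, 5], [0, 0, 0, 0, 0, -1, 1, 2], [(54, [5], 5), (54, [1], 5), (54, [4], 5), (54, [3], 5), (54, [2], 5), (53, [], 5), (55, [], 5), (0, [], 0)]),
  (54, 6, [6, 5, 4, 3, 1, 2, 0, 3, 2, 4, 3, 1, 5, 4, 3, 2, 0, 6, 5, 4, 3, 1, 2, 3, 4, 5, 6], [0, 0, 0, 0, 0, 0, -1, 3], [(55, [5], 6), (55, [1], 6), (55, [4], 6), (55, [3], 6), (55, [2], 6), (55, [0], 6), (54, [], 6), (0, [], 0)])]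

/-- Cosets of the parabolic subgroup of the first 6 nodes in that of the first 7. -/
def table7 : List (Node 8) := List.flatten [table7Part0, table7Part1, table7Part2, table7Part3, table7Part4, table7Part5]

theorem table7_cosetTest : cosetTest table7 CoxeterMatrix.E₈ [0, 1, 2, 3, 4, 5, 6] [0, 1, 2, 3, 4, 5] = true := by
  decide +kernel

theorem table7_vecTest : vecTest cartan table7 [0, 1, 2, 3, 4, 5] = true := by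
  decide +kernel

/-- Part 0 of `table8`. -/
def table8Part0 : List (Node 8) := [
  (0, 0, [], [0, 0, 0, 0, 0, 0, 0, 1], [(0, [0], 0), (0, [1], 0), (0, [2], 0), (0, [3], 0), (0, [4], 0), (0, [5], 0), (0, [6], 0), (1, [], 0)]),
  (0, 7, [7], [0, 0, 0, 0, 0, 0, 1, -1], [(1, [0], 7), (1, [1], 7), (1, [2], 7), (1, [3], 7), (1, [4], 7), (1, [5], 7), (2, [], 7), (0, [], 7)]),
  (1, 6, [7, 6], [0, 0, 0, 0, 0, 1, -1, 0], [(2, [0], 6), (2, [1], 6), (2, [2], 6), (2, [3], 6), (2, [4], 6), (3, [], 6), (1, [], 6), (2, [6], 6)]),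
  (2, 5, [7, 6, 5], [0, 0, 0, 0, 1, -1, 0, 0], [(3, [0], 5), (3, [1], 5), (3, [2], 5), (3, [3], 5), (4, [], 5), (2, [], 5), (3, [5], 5), (3, [6], 5)]),
  (3, 4, [7, 6, 5, 4], [0, 0, 0, 1, -1, 0, 0, 0], [(4, [0], 4), (4, [1], 4), (4, [2], 4), (5, [], 4), (3, [], 4), (4, [4], 4), (4, [5], 4), (4, [6], 4)]),
  (4, 3, [7, 6, 5, 4, 3], [0, 1, 1, -1, 0, 0, 0, 0], [(5, [0], 3), (6, [], 3), (7, [], 3), (4, [], 3), (5, [3], 3), (5, [4], 3), (5, [5], 3), (5, [6], 3)]),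
  (5, 1, [7, 6, 5, 4, 3, 1], [0, -1, 1, 0, 0, 0, 0, 0], [(6, [0], 1), (5, [], 1), (8, [], 1), (6, [1], 1), (6, [3], 1), (6, [4], 1), (6, [5], 1), (6, [6], 1)]),
  (5, 2, [7, 6, 5, 4, 3, 2], [1, 1, -1, 0, 0, 0, 0, 0], [(9, [], 2), (8, [], 2), (5, [], 2), (7, [2], 2), (7, [3], 2), (7, [4], 2), (7, [5], 2), (7, [6], 2)]),
  (6, 2, [7, 6, 5, 4, 3, 1, 2], [1, -1, -1, 1, 0, 0, 0, 0], [(10, [], 2), (7, [], 2), (6, [], 2), (11, [], 2), (8, [3], 2), (8, [4], 2), (8, [5], 2), (8, [6], 2)]),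
  (7, 0, [7, 6, 5, 4, 3, 2, 0], [-1, 1, 0, 0, 0, 0, 0, 0], [(7, [], 0), (10, [], 0), (9, [0], 0), (9, [2], 0), (9, [3], 0), (9, [4], 0), (9, [5], 0), (9, [6], 0)])]

/-- Part 1 of `table8`. -/
def table8Part1 : List (Node 8) := [
  (8, 0, [7, 6, 5, 4, 3, 1, 2, 0], [-1, -1, 0, 1, 0, 0, 0, 0], [(8, [], 0), (9, [], 0), (10, [0], 0), (12, [], 0), (10, [3], 0), (10, [4], 0), (10, [5], 0), (10, [6], 0)]),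
  (8, 3, [7, 6, 5, 4, 3, 1, 2, 3], [1, 0, 0, -1, 1, 0, 0, 0], [(12, [], 3), (11, [2], 3), (11, [1], 3), (8, [], 3), (13, [], 3), (11, [4], 3), (11, [5], 3), (11, [6], 3)]),
  (10, 3, [7, 6, 5, 4, 3, 1, 2, 0, 3], [-1, 0, 1, -1, 1, 0, 0, 0], [(11, [], 3), (12, [2], 3), (14, [], 3), (10, [], 3), (15, [], 3), (12, [4], 3), (12, [5], 3), (12, [6], 3)]),
  (11, 4, [7, 6, 5, 4, 3, 1, 2, 3, 4], [1, 0, 0, 0, -1, 1, 0, 0], [(15, [], 4), (13, [2], 4), (13, [1], 4), (13, [3], 4), (11, [], 4), (16, [], 4), (13, [5], 4), (13, [6], 4)]),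
  (12, 2, [7, 6, 5, 4, 3, 1, 2, 0, 3, 2], [0, 0, -1, 0, 1, 0, 0, 0], [(14, [1], 2), (14, [2], 2), (12, [], 2), (14, [0], 2), (17, [], 2), (14, [4], 2), (14, [5], 2), (14, [6], 2)]),
  (12, 4, [7, 6, 5, 4, 3, 1, 2, 0, 3, 4], [-1, 0, 1, 0, -1, 1, 0, 0], [(13, [], 4), (15, [2], 4), (17, [], 4), (15, [3], 4), (12, [], 4), (18, [], 4), (15, [5], 4), (15, [6], 4)]),
  (13, 5, [7, 6, 5, 4, 3, 1, 2, 3, 4, 5], [1, 0, 0, 0, 0, -1, 1, 0], [(18, [], 5), (16, [2], 5), (16, [1], 5), (16, [3], 5), (16, [4], 5), (13, [], 5), (19, [], 5), (16, [6], 5)]),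
  (14, 4, [7, 6, 5, 4, 3, 1, 2, 0, 3, 2, 4], [0, 0, -1, 1, -1, 1, 0, 0], [(17, [1], 4), (17, [2], 4), (15, [], 4), (20, [], 4), (14, [], 4), (21, [], 4), (17, [5], 4), (17, [6], 4)]),
  (15, 5, [7, 6, 5, 4, 3, 1, 2, 0, 3, 4, 5], [-1, 0, 1, 0, 0, -1, 1, 0], [(16, [], 5), (18, [2], 5), (21, [], 5), (18, [3], 5), (18, [4], 5), (15, [], 5), (22, [], 5), (18, [6], 5)]),
  (16, 6, [7, 6, 5, 4, 3, 1, 2, 3, 4, 5, 6], [1, 0, 0, 0, 0, 0, -1, 1], [(22, [], 6), (19, [2], 6), (19, [1], 6), (19, [3], 6), (19, [4], 6), (19, [5], 6), (16, [], 6), (23, [], 6)])]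

/-- Part 2 of `table8`. -/
def table8Part2 : List (Node 8) := [
  (17, 3, [7, 6, 5, 4, 3, 1, 2, 0, 3, 2, 4, 3], [0, 1, 0, -1, 0, 1, 0, 0], [(20, [1], 3), (24, [], 3), (20, [3], 3), (17, [], 3), (20, [0], 3), (25, [], 3), (20, [5], 3), (20, [6], 3)]),
  (17, 5, [7, 6, 5, 4, 3, 1, 2, 0, 3, 2, 4, 5], [0, 0, -1, 1, 0, -1, 1, 0], [(21, [1], 5), (21, [2], 5), (18, [], 5), (25, [], 5), (21, [4], 5), (17, [], 5), (26, [], 5), (21, [6], 5)]),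
  (18, 6, [7, 6, 5, 4, 3, 1, 2, 0, 3, 4, 5, 6], [-1, 0, 1, 0, 0, 0, -1, 1], [(19, [], 6), (22, [2], 6), (26, [], 6), (22, [3], 6), (22, [4], 6), (22, [5], 6), (18, [], 6), (27, [], 6)]),
  (19, 7, [7, 6, 5, 4, 3, 1, 2, 3, 4, 5, 6, 7], [1, 0, 0, 0, 0, 0, 0, -1], [(27, [], 7), (23, [2], 7), (23, [1], 7), (23, [3], 7), (23, [4], 7), (23, [5], 7), (23, [6], 7), (19, [], 7)]),
  (20, 1, [7, 6, 5, 4, 3, 1, 2, 0, 3, 2, 4, 3, 1], [0, -1, 0, 0, 0, 1, 0, 0], [(24, [1], 1), (20, [], 1), (24, [3], 1), (24, [2], 1), (24, [0], 1), (28, [], 1), (24, [5], 1), (24, [6], 1)]),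
  (20, 5, [7, 6, 5, 4, 3, 1, 2, 0, 3, 2, 4, 3, 5], [0, 1, 0, -1, 1, -1, 1, 0], [(25, [1], 5), (28, [], 5), (25, [3], 5), (21, [], 5), (29, [], 5), (20, [], 5), (30, [], 5), (25, [6], 5)]),
  (21, 6, [7, 6, 5, 4, 3, 1, 2, 0, 3, 2, 4, 5, 6], [0, 0, -1, 1, 0, 0, -1, 1], [(26, [1], 6), (26, [2], 6), (22, [], 6), (30, [], 6), (26, [4], 6), (26, [5], 6), (21, [], 6), (31, [], 6)]),
  (22, 7, [7, 6, 5, 4, 3, 1, 2, 0, 3, 4, 5, 6, 7], [-1, 0, 1, 0, 0, 0, 0, -1], [(23, [], 7), (27, [2], 7), (31, [], 7), (27, [3], 7), (27, [4], 7), (27, [5], 7), (27, [6], 7), (22, [], 7)]),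
  (24, 5, [7, 6, 5, 4, 3, 1, 2, 0, 3, 2, 4, 3, 1, 5], [0, -1, 0, 0, 1, -1, 1, 0], [(28, [1], 5), (25, [], 5), (28, [3], 5), (28, [2], 5), (32, [], 5), (24, [], 5), (33, [], 5), (28, [6], 5)]),
  (25, 4, [7, 6, 5, 4, 3, 1, 2, 0, 3, 2, 4, 3, 5, 4], [0, 1, 0, 0, -1, 0, 1, 0], [(29, [1], 4), (32, [], 4), (29, [3], 4), (29, [4], 4), (25, [], 4), (29, [0], 4), (34, [], 4), (29, [6], 4)])]

/-- Part 3 of `table8`. -/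
def table8Part3 : List (Node 8) := [
  (25, 6, [7, 6, 5, 4, 3, 1, 2, 0, 3, 2, 4, 3, 5, 6], [0, 1, 0, -1, 1, 0, -1, 1], [(30, [1], 6), (33, [], 6), (30, [3], 6), (26, [], 6), (34, [], 6), (30, [5], 6), (25, [], 6), (35, [], 6)]),
  (26, 7, [7, 6, 5, 4, 3, 1, 2, 0, 3, 2, 4, 5, 6, 7], [0, 0, -1, 1, 0, 0, 0, -1], [(31, [1], 7), (31, [2], 7), (27, [], 7), (35, [], 7), (31, [4], 7), (31, [5], 7), (31, [6], 7), (26, [], 7)]),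
  (28, 4, [7, 6, 5, 4, 3, 1, 2, 0, 3, 2, 4, 3, 1, 5, 4], [0, -1, 0, 1, -1, 0, 1, 0], [(32, [1], 4), (29, [], 4), (32, [3], 4), (36, [], 4), (28, [], 4), (32, [0], 4), (37, [], 4), (32, [6], 4)]),
  (28, 6, [7, 6, 5, 4, 3, 1, 2, 0, 3, 2, 4, 3, 1, 5, 6], [0, -1, 0, 0, 1, 0, -1, 1], [(33, [1], 6), (30, [], 6), (33, [3], 6), (33, [2], 6), (37, [], 6), (33, [5], 6), (28, [], 6), (38, [], 6)]),
  (29, 6, [7, 6, 5, 4, 3, 1, 2, 0, 3, 2, 4, 3, 5, 4, 6], [0, 1, 0, 0, -1, 1, -1, 1], [(34, [1], 6), (37, [], 6), (34, [3], 6), (34, [4], 6), (30, [], 6), (39, [], 6), (29, [], 6), (40, [], 6)]),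
  (30, 7, [7, 6, 5, 4, 3, 1, 2, 0, 3, 2, 4, 3, 5, 6, 7], [0, 1, 0, -1, 1, 0, 0, -1], [(35, [1], 7), (38, [], 7), (35, [3], 7), (31, [], 7), (40, [], 7), (35, [5], 7), (35, [6], 7), (30, [], 7)]),
  (32, 3, [7, 6, 5, 4, 3, 1, 2, 0, 3, 2, 4, 3, 1, 5, 4, 3], [0, 0, 1, -1, 0, 0, 1, 0], [(36, [1], 3), (36, [4], 3), (41, [], 3), (32, [], 3), (36, [2], 3), (36, [0], 3), (42, [], 3), (36, [6], 3)]),
  (32, 6, [7, 6, 5, 4, 3, 1, 2, 0, 3, 2, 4, 3, 1, 5, 4, 6], [0, -1, 0, 1, -1, 1, -1, 1], [(37, [1], 6), (34, [], 6), (37, [3], 6), (42, [], 6), (33, [], 6), (43, [], 6), (32, [], 6), (44, [], 6)]),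
  (33, 7, [7, 6, 5, 4, 3, 1, 2, 0, 3, 2, 4, 3, 1, 5, 6, 7], [0, -1, 0, 0, 1, 0, 0, -1], [(38, [1], 7), (35, [], 7), (38, [3], 7), (38, [2], 7), (44, [], 7), (38, [5], 7), (38, [6], 7), (33, [], 7)]),
  (34, 5, [7, 6, 5, 4, 3, 1, 2, 0, 3, 2, 4, 3, 5, 4, 6, 5], [0, 1, 0, 0, 0, -1, 0, 1], [(39, [1], 5), (43, [], 5), (39, [3], 5), (39, [4], 5), (39, [5], 5), (34, [], 5), (39, [0], 5), (45, [], 5)])]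

/-- Part 4 of `table8`. -/
def table8Part4 : List (Node 8) := [
  (34, 7, [7, 6, 5, 4, 3, 1, 2, 0, 3, 2, 4, 3, 5, 4, 6, 7], [0, 1, 0, 0, -1, 1, 0, -1], [(40, [1], 7), (44, [], 7), (40, [3], 7), (40, [4], 7), (35, [], 7), (45, [], 7), (40, [6], 7), (34, [], 7)]),
  (36, 2, [7, 6, 5, 4, 3, 1, 2, 0, 3, 2, 4, 3, 1, 5, 4, 3, 2], [1, 0, -1, 0, 0, 0, 1, 0], [(46, [], 2), (41, [4], 2), (36, [], 2), (41, [3], 2), (41, [2], 2), (41, [0], 2), (47, [], 2), (41, [6], 2)]),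
  (36, 6, [7, 6, 5, 4, 3, 1, 2, 0, 3, 2, 4, 3, 1, 5, 4, 3, 6], [0, 0, 1, -1, 0, 1, -1, 1], [(42, [1], 6), (42, [4], 6), (47, [], 6), (37, [], 6), (42, [2], 6), (48, [], 6), (36, [], 6), (49, [], 6)]),
  (37, 5, [7, 6, 5, 4, 3, 1, 2, 0, 3, 2, 4, 3, 1, 5, 4, 6, 5], [0, -1, 0, 1, 0, -1, 0, 1], [(43, [1], 5), (39, [], 5), (43, [3], 5), (48, [], 5), (43, [5], 5), (37, [], 5), (43, [0], 5), (50, [], 5)]),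
  (37, 7, [7, 6, 5, 4, 3, 1, 2, 0, 3, 2, 4, 3, 1, 5, 4, 6, 7], [0, -1, 0, 1, -1, 1, 0, -1], [(44, [1], 7), (40, [], 7), (44, [3], 7), (49, [], 7), (38, [], 7), (50, [], 7), (44, [6], 7), (37, [], 7)]),
  (39, 7, [7, 6, 5, 4, 3, 1, 2, 0, 3, 2, 4, 3, 5, 4, 6, 5, 7], [0, 1, 0, 0, 0, -1, 1, -1], [(45, [1], 7), (50, [], 7), (45, [3], 7), (45, [4], 7), (45, [5], 7), (40, [], 7), (51, [], 7), (39, [], 7)]),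
  (41, 0, [7, 6, 5, 4, 3, 1, 2, 0, 3, 2, 4, 3, 1, 5, 4, 3, 2, 0], [-1, 0, 0, 0, 0, 0, 1, 0], [(41, [], 0), (46, [4], 0), (46, [1], 0), (46, [3], 0), (46, [2], 0), (46, [0], 0), (52, [], 0), (46, [6], 0)]),
  (41, 6, [7, 6, 5, 4, 3, 1, 2, 0, 3, 2, 4, 3, 1, 5, 4, 3, 2, 6], [1, 0, -1, 0, 0, 1, -1, 1], [(52, [], 6), (47, [4], 6), (42, [], 6), (47, [3], 6), (47, [2], 6), (53, [], 6), (41, [], 6), (54, [], 6)]),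
  (42, 5, [7, 6, 5, 4, 3, 1, 2, 0, 3, 2, 4, 3, 1, 5, 4, 3, 6, 5], [0, 0, 1, -1, 1, -1, 0, 1], [(48, [1], 5), (48, [4], 5), (53, [], 5), (43, [], 5), (55, [], 5), (42, [], 5), (48, [0], 5), (56, [], 5)]),
  (42, 7, [7, 6, 5, 4, 3, 1, 2, 0, 3, 2, 4, 3, 1, 5, 4, 3, 6, 7], [0, 0, 1, -1, 0, 1, 0, -1], [(49, [1], 7), (49, [4], 7), (54, [], 7), (44, [], 7), (49, [2], 7), (56, [], 7), (49, [6], 7), (42, [], 7)])]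

/-- Part 5 of `table8`. -/
def table8Part5 : List (Node 8) := [
  (43, 7, [7, 6, 5, 4, 3, 1, 2, 0, 3, 2, 4, 3, 1, 5, 4, 6, 5, 7], [0, -1, 0, 1, 0, -1, 1, -1], [(50, [1], 7), (45, [], 7), (50, [3], 7), (56, [], 7), (50, [5], 7), (44, [], 7), (57, [], 7), (43, [], 7)]),
  (45, 6, [7, 6, 5, 4, 3, 1, 2, 0, 3, 2, 4, 3, 5, 4, 6, 5, 7, 6], [0, 1, 0, 0, 0, 0, -1, 0], [(51, [1], 6), (57, [], 6), (51, [3], 6), (51, [4], 6), (51, [5], 6), (51, [6], 6), (45, [], 6), (51, [0], 6)]),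
  (46, 6, [7, 6, 5, 4, 3, 1, 2, 0, 3, 2, 4, 3, 1, 5, 4, 3, 2, 0, 6], [-1, 0, 0, 0, 0, 1, -1, 1], [(47, [], 6), (52, [4], 6), (52, [1], 6), (52, [3], 6), (52, [2], 6), (58, [], 6), (46, [], 6), (59, [], 6)]),
  (47, 5, [7, 6, 5, 4, 3, 1, 2, 0, 3, 2, 4, 3, 1, 5, 4, 3, 2, 6, 5], [1, 0, -1, 0, 1, -1, 0, 1], [(58, [], 5), (53, [4], 5), (48, [], 5), (53, [3], 5), (60, [], 5), (47, [], 5), (53, [0], 5), (61, [], 5)]),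
  (47, 7, [7, 6, 5, 4, 3, 1, 2, 0, 3, 2, 4, 3, 1, 5, 4, 3, 2, 6, 7], [1, 0, -1, 0, 0, 1, 0, -1], [(59, [], 7), (54, [4], 7), (49, [], 7), (54, [3], 7), (54, [2], 7), (61, [], 7), (54, [6], 7), (47, [], 7)]),
  (48, 4, [7, 6, 5, 4, 3, 1, 2, 0, 3, 2, 4, 3, 1, 5, 4, 3, 6, 5, 4], [0, 0, 1, 0, -1, 0, 0, 1], [(55, [1], 4), (55, [4], 4), (60, [], 4), (55, [5], 4), (48, [], 4), (55, [2], 4), (55, [0], 4), (62, [], 4)]),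
  (48, 7, [7, 6, 5, 4, 3, 1, 2, 0, 3, 2, 4, 3, 1, 5, 4, 3, 6, 5, 7], [0, 0, 1, -1, 1, -1, 1, -1], [(56, [1], 7), (56, [4], 7), (61, [], 7), (50, [], 7), (62, [], 7), (49, [], 7), (63, [], 7), (48, [], 7)]),
  (50, 6, [7, 6, 5, 4, 3, 1, 2, 0, 3, 2, 4, 3, 1, 5, 4, 6, 5, 7, 6], [0, -1, 0, 1, 0, 0, -1, 0], [(57, [1], 6), (51, [], 6), (57, [3], 6), (63, [], 6), (57, [5], 6), (57, [6], 6), (50, [], 6), (57, [0], 6)]),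
  (52, 5, [7, 6, 5, 4, 3, 1, 2, 0, 3, 2, 4, 3, 1, 5, 4, 3, 2, 0, 6, 5], [-1, 0, 0, 0, 1, -1, 0, 1], [(53, [], 5), (58, [4], 5), (58, [1], 5), (58, [3], 5), (64, [], 5), (52, [], 5), (58, [0], 5), (65, [], 5)]),
  (52, 7, [7, 6, 5, 4, 3, 1, 2, 0, 3, 2, 4, 3, 1, 5, 4, 3, 2, 0, 6, 7], [-1, 0, 0, 0, 0, 1, 0, -1], [(54, [], 7), (59, [4], 7), (59, [1], 7), (59, [3], 7), (59, [2], 7), (65, [], 7), (59, [6], 7), (52, [], 7)])]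

/-- Part 6 of `table8`. -/
def table8Part6 : List (Node 8) := [
  (53, 4, [7, 6, 5, 4, 3, 1, 2, 0, 3, 2, 4, 3, 1, 5, 4, 3, 2, 6, 5, 4], [1, 0, -1, 1, -1, 0, 0, 1], [(64, [], 4), (60, [4], 4), (55, [], 4), (66, [], 4), (53, [], 4), (60, [2], 4), (60, [0], 4), (67, [], 4)]),
  (53, 7, [7, 6, 5, 4, 3, 1, 2, 0, 3, 2, 4, 3, 1, 5, 4, 3, 2, 6, 5, 7], [1, 0, -1, 0, 1, -1, 1, -1], [(65, [], 7), (61, [4], 7), (56, [], 7), (61, [3], 7), (67, [], 7), (54, [], 7), (68, [], 7), (53, [], 7)]),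
  (55, 7, [7, 6, 5, 4, 3, 1, 2, 0, 3, 2, 4, 3, 1, 5, 4, 3, 6, 5, 4, 7], [0, 0, 1, 0, -1, 0, 1, -1], [(62, [1], 7), (62, [4], 7), (67, [], 7), (62, [5], 7), (56, [], 7), (62, [2], 7), (69, [], 7), (55, [], 7)]),
  (56, 6, [7, 6, 5, 4, 3, 1, 2, 0, 3, 2, 4, 3, 1, 5, 4, 3, 6, 5, 7, 6], [0, 0, 1, -1, 1, 0, -1, 0], [(63, [1], 6), (63, [4], 6), (68, [], 6), (57, [], 6), (69, [], 6), (63, [6], 6), (56, [], 6), (63, [0], 6)]),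
  (58, 4, [7, 6, 5, 4, 3, 1, 2, 0, 3, 2, 4, 3, 1, 5, 4, 3, 2, 0, 6, 5, 4], [-1, 0, 0, 1, -1, 0, 0, 1], [(60, [], 4), (64, [4], 4), (64, [1], 4), (70, [], 4), (58, [], 4), (64, [2], 4), (64, [0], 4), (71, [], 4)]),
  (58, 7, [7, 6, 5, 4, 3, 1, 2, 0, 3, 2, 4, 3, 1, 5, 4, 3, 2, 0, 6, 5, 7], [-1, 0, 0, 0, 1, -1, 1, -1], [(61, [], 7), (65, [4], 7), (65, [1], 7), (65, [3], 7), (71, [], 7), (59, [], 7), (72, [], 7), (58, [], 7)]),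
  (60, 3, [7, 6, 5, 4, 3, 1, 2, 0, 3, 2, 4, 3, 1, 5, 4, 3, 2, 6, 5, 4, 3], [1, 1, 0, -1, 0, 0, 0, 1], [(70, [], 3), (73, [], 3), (66, [5], 3), (60, [], 3), (66, [3], 3), (66, [2], 3), (66, [0], 3), (74, [], 3)]),
  (60, 7, [7, 6, 5, 4, 3, 1, 2, 0, 3, 2, 4, 3, 1, 5, 4, 3, 2, 6, 5, 4, 7], [1, 0, -1, 1, -1, 0, 1, -1], [(71, [], 7), (67, [4], 7), (62, [], 7), (74, [], 7), (61, [], 7), (67, [2], 7), (75, [], 7), (60, [], 7)]),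
  (61, 6, [7, 6, 5, 4, 3, 1, 2, 0, 3, 2, 4, 3, 1, 5, 4, 3, 2, 6, 5, 7, 6], [1, 0, -1, 0, 1, 0, -1, 0], [(72, [], 6), (68, [4], 6), (63, [], 6), (68, [3], 6), (75, [], 6), (68, [6], 6), (61, [], 6), (68, [0], 6)]),
  (62, 6, [7, 6, 5, 4, 3, 1, 2, 0, 3, 2, 4, 3, 1, 5, 4, 3, 6, 5, 4, 7, 6], [0, 0, 1, 0, -1, 1, -1, 0], [(69, [1], 6), (69, [4], 6), (75, [], 6), (69, [5], 6), (63, [], 6), (76, [], 6), (62, [], 6), (69, [0], 6)])]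

/-- Part 7 of `table8`. -/
def table8Part7 : List (Node 8) := [
  (64, 3, [7, 6, 5, 4, 3, 1, 2, 0, 3, 2, 4, 3, 1, 5, 4, 3, 2, 0, 6, 5, 4, 3], [-1, 1, 1, -1, 0, 0, 0, 1], [(66, [], 3), (77, [], 3), (78, [], 3), (64, [], 3), (70, [3], 3), (70, [2], 3), (70, [0], 3), (79, [], 3)]),
  (64, 7, [7, 6, 5, 4, 3, 1, 2, 0, 3, 2, 4, 3, 1, 5, 4, 3, 2, 0, 6, 5, 4, 7], [-1, 0, 0, 1, -1, 0, 1, -1], [(67, [], 7), (71, [4], 7), (71, [1], 7), (79, [], 7), (65, [], 7), (71, [2], 7), (80, [], 7), (64, [], 7)]),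
  (65, 6, [7, 6, 5, 4, 3, 1, 2, 0, 3, 2, 4, 3, 1, 5, 4, 3, 2, 0, 6, 5, 7, 6], [-1, 0, 0, 0, 1, 0, -1, 0], [(68, [], 6), (72, [4], 6), (72, [1], 6), (72, [3], 6), (80, [], 6), (72, [6], 6), (65, [], 6), (72, [0], 6)]),
  (66, 1, [7, 6, 5, 4, 3, 1, 2, 0, 3, 2, 4, 3, 1, 5, 4, 3, 2, 6, 5, 4, 3, 1], [1, -1, 0, 0, 0, 0, 0, 1], [(77, [], 1), (66, [], 1), (73, [5], 1), (73, [4], 1), (73, [3], 1), (73, [2], 1), (73, [0], 1), (81, [], 1)]),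
  (66, 7, [7, 6, 5, 4, 3, 1, 2, 0, 3, 2, 4, 3, 1, 5, 4, 3, 2, 6, 5, 4, 3, 7], [1, 1, 0, -1, 0, 0, 1, -1], [(79, [], 7), (81, [], 7), (74, [5], 7), (67, [], 7), (74, [3], 7), (74, [2], 7), (82, [], 7), (66, [], 7)]),
  (67, 6, [7, 6, 5, 4, 3, 1, 2, 0, 3, 2, 4, 3, 1, 5, 4, 3, 2, 6, 5, 4, 7, 6], [1, 0, -1, 1, -1, 1, -1, 0], [(80, [], 6), (75, [4], 6), (69, [], 6), (82, [], 6), (68, [], 6), (83, [], 6), (67, [], 6), (75, [0], 6)]),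
  (69, 5, [7, 6, 5, 4, 3, 1, 2, 0, 3, 2, 4, 3, 1, 5, 4, 3, 6, 5, 4, 7, 6, 5], [0, 0, 1, 0, 0, -1, 0, 0], [(76, [1], 5), (76, [4], 5), (83, [], 5), (76, [5], 5), (76, [6], 5), (69, [], 5), (76, [2], 5), (76, [0], 5)]),
  (70, 1, [7, 6, 5, 4, 3, 1, 2, 0, 3, 2, 4, 3, 1, 5, 4, 3, 2, 0, 6, 5, 4, 3, 1], [-1, -1, 1, 0, 0, 0, 0, 1], [(73, [], 1), (70, [], 1), (84, [], 1), (77, [4], 1), (77, [3], 1), (77, [2], 1), (77, [0], 1), (85, [], 1)]),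
  (70, 2, [7, 6, 5, 4, 3, 1, 2, 0, 3, 2, 4, 3, 1, 5, 4, 3, 2, 0, 6, 5, 4, 3, 2], [0, 1, -1, 0, 0, 0, 0, 1], [(78, [5], 2), (84, [], 2), (70, [], 2), (78, [1], 2), (78, [3], 2), (78, [2], 2), (78, [0], 2), (86, [], 2)]),
  (70, 7, [7, 6, 5, 4, 3, 1, 2, 0, 3, 2, 4, 3, 1, 5, 4, 3, 2, 0, 6, 5, 4, 3, 7], [-1, 1, 1, -1, 0, 0, 1, -1], [(74, [], 7), (85, [], 7), (86, [], 7), (71, [], 7), (79, [3], 7), (79, [2], 7), (87, [], 7), (70, [], 7)])]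

/-- Part 8 of `table8`. -/
def table8Part8 : List (Node 8) := [
  (71, 6, [7, 6, 5, 4, 3, 1, 2, 0, 3, 2, 4, 3, 1, 5, 4, 3, 2, 0, 6, 5, 4, 7, 6], [-1, 0, 0, 1, -1, 1, -1, 0], [(75, [], 6), (80, [4], 6), (80, [1], 6), (87, [], 6), (72, [], 6), (88, [], 6), (71, [], 6), (80, [0], 6)]),
  (73, 7, [7, 6, 5, 4, 3, 1, 2, 0, 3, 2, 4, 3, 1, 5, 4, 3, 2, 6, 5, 4, 3, 1, 7], [1, -1, 0, 0, 0, 0, 1, -1], [(85, [], 7), (74, [], 7), (81, [5], 7), (81, [4], 7), (81, [3], 7), (81, [2], 7), (89, [], 7), (73, [], 7)]),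
  (74, 6, [7, 6, 5, 4, 3, 1, 2, 0, 3, 2, 4, 3, 1, 5, 4, 3, 2, 6, 5, 4, 3, 7, 6], [1, 1, 0, -1, 0, 1, -1, 0], [(87, [], 6), (89, [], 6), (82, [5], 6), (75, [], 6), (82, [3], 6), (90, [], 6), (74, [], 6), (82, [0], 6)]),
  (75, 5, [7, 6, 5, 4, 3, 1, 2, 0, 3, 2, 4, 3, 1, 5, 4, 3, 2, 6, 5, 4, 7, 6, 5], [1, 0, -1, 1, 0, -1, 0, 0], [(88, [], 5), (83, [4], 5), (76, [], 5), (90, [], 5), (83, [6], 5), (75, [], 5), (83, [2], 5), (83, [0], 5)]),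
  (77, 2, [7, 6, 5, 4, 3, 1, 2, 0, 3, 2, 4, 3, 1, 5, 4, 3, 2, 0, 6, 5, 4, 3, 1, 2], [0, -1, -1, 1, 0, 0, 0, 1], [(84, [5], 2), (78, [], 2), (77, [], 2), (91, [], 2), (84, [3], 2), (84, [2], 2), (84, [0], 2), (92, [], 2)]),
  (77, 7, [7, 6, 5, 4, 3, 1, 2, 0, 3, 2, 4, 3, 1, 5, 4, 3, 2, 0, 6, 5, 4, 3, 1, 7], [-1, -1, 1, 0, 0, 0, 1, -1], [(81, [], 7), (79, [], 7), (92, [], 7), (85, [4], 7), (85, [3], 7), (85, [2], 7), (93, [], 7), (77, [], 7)]),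
  (78, 7, [7, 6, 5, 4, 3, 1, 2, 0, 3, 2, 4, 3, 1, 5, 4, 3, 2, 0, 6, 5, 4, 3, 2, 7], [0, 1, -1, 0, 0, 0, 1, -1], [(86, [5], 7), (92, [], 7), (79, [], 7), (86, [1], 7), (86, [3], 7), (86, [2], 7), (94, [], 7), (78, [], 7)]),
  (79, 6, [7, 6, 5, 4, 3, 1, 2, 0, 3, 2, 4, 3, 1, 5, 4, 3, 2, 0, 6, 5, 4, 3, 7, 6], [-1, 1, 1, -1, 0, 1, -1, 0], [(82, [], 6), (93, [], 6), (94, [], 6), (80, [], 6), (87, [3], 6), (95, [], 6), (79, [], 6), (87, [0], 6)]),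
  (80, 5, [7, 6, 5, 4, 3, 1, 2, 0, 3, 2, 4, 3, 1, 5, 4, 3, 2, 0, 6, 5, 4, 7, 6, 5], [-1, 0, 0, 1, 0, -1, 0, 0], [(83, [], 5), (88, [4], 5), (88, [1], 5), (95, [], 5), (88, [6], 5), (80, [], 5), (88, [2], 5), (88, [0], 5)]),
  (81, 6, [7, 6, 5, 4, 3, 1, 2, 0, 3, 2, 4, 3, 1, 5, 4, 3, 2, 6, 5, 4, 3, 1, 7, 6], [1, -1, 0, 0, 0, 1, -1, 0], [(93, [], 6), (82, [], 6), (89, [5], 6), (89, [4], 6), (89, [3], 6), (96, [], 6), (81, [], 6), (89, [0], 6)])]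

/-- Part 9 of `table8`. -/
def table8Part9 : List (Node 8) := [
  (82, 5, [7, 6, 5, 4, 3, 1, 2, 0, 3, 2, 4, 3, 1, 5, 4, 3, 2, 6, 5, 4, 3, 7, 6, 5], [1, 1, 0, -1, 1, -1, 0, 0], [(95, [], 5), (96, [], 5), (90, [5], 5), (83, [], 5), (97, [], 5), (82, [], 5), (90, [2], 5), (90, [0], 5)]),
  (84, 3, [7, 6, 5, 4, 3, 1, 2, 0, 3, 2, 4, 3, 1, 5, 4, 3, 2, 0, 6, 5, 4, 3, 1, 2, 3], [0, 0, 0, -1, 1, 0, 0, 1], [(91, [5], 3), (91, [1], 3), (91, [4], 3), (84, [], 3), (98, [], 3), (91, [2], 3), (91, [0], 3), (99, [], 3)]),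
  (84, 7, [7, 6, 5, 4, 3, 1, 2, 0, 3, 2, 4, 3, 1, 5, 4, 3, 2, 0, 6, 5, 4, 3, 1, 2, 7], [0, -1, -1, 1, 0, 0, 1, -1], [(92, [5], 7), (86, [], 7), (85, [], 7), (99, [], 7), (92, [3], 7), (92, [2], 7), (100, [], 7), (84, [], 7)]),
  (85, 6, [7, 6, 5, 4, 3, 1, 2, 0, 3, 2, 4, 3, 1, 5, 4, 3, 2, 0, 6, 5, 4, 3, 1, 7, 6], [-1, -1, 1, 0, 0, 1, -1, 0], [(89, [], 6), (87, [], 6), (100, [], 6), (93, [4], 6), (93, [3], 6), (101, [], 6), (85, [], 6), (93, [0], 6)]),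
  (86, 6, [7, 6, 5, 4, 3, 1, 2, 0, 3, 2, 4, 3, 1, 5, 4, 3, 2, 0, 6, 5, 4, 3, 2, 7, 6], [0, 1, -1, 0, 0, 1, -1, 0], [(94, [5], 6), (100, [], 6), (87, [], 6), (94, [1], 6), (94, [3], 6), (102, [], 6), (86, [], 6), (94, [0], 6)]),
  (87, 5, [7, 6, 5, 4, 3, 1, 2, 0, 3, 2, 4, 3, 1, 5, 4, 3, 2, 0, 6, 5, 4, 3, 7, 6, 5], [-1, 1, 1, -1, 1, -1, 0, 0], [(90, [], 5), (101, [], 5), (102, [], 5), (88, [], 5), (103, [], 5), (87, [], 5), (95, [2], 5), (95, [0], 5)]),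
  (89, 5, [7, 6, 5, 4, 3, 1, 2, 0, 3, 2, 4, 3, 1, 5, 4, 3, 2, 6, 5, 4, 3, 1, 7, 6, 5], [1, -1, 0, 0, 1, -1, 0, 0], [(101, [], 5), (90, [], 5), (96, [5], 5), (96, [4], 5), (104, [], 5), (89, [], 5), (96, [2], 5), (96, [0], 5)]),
  (90, 4, [7, 6, 5, 4, 3, 1, 2, 0, 3, 2, 4, 3, 1, 5, 4, 3, 2, 6, 5, 4, 3, 7, 6, 5, 4], [1, 1, 0, 0, -1, 0, 0, 0], [(103, [], 4), (104, [], 4), (97, [5], 4), (97, [6], 4), (90, [], 4), (97, [3], 4), (97, [2], 4), (97, [0], 4)]),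
  (91, 4, [7, 6, 5, 4, 3, 1, 2, 0, 3, 2, 4, 3, 1, 5, 4, 3, 2, 0, 6, 5, 4, 3, 1, 2, 3, 4], [0, 0, 0, 0, -1, 1, 0, 1], [(98, [5], 4), (98, [1], 4), (98, [4], 4), (98, [3], 4), (91, [], 4), (105, [], 4), (98, [0], 4), (106, [], 4)]),
  (91, 7, [7, 6, 5, 4, 3, 1, 2, 0, 3, 2, 4, 3, 1, 5, 4, 3, 2, 0, 6, 5, 4, 3, 1, 2, 3, 7], [0, 0, 0, -1, 1, 0, 1, -1], [(99, [5], 7), (99, [1], 7), (99, [4], 7), (92, [], 7), (106, [], 7), (99, [2], 7), (107, [], 7), (91, [], 7)])]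

/-- Part 10 of `table8`. -/
def table8Part10 : List (Node 8) := [
  (92, 6, [7, 6, 5, 4, 3, 1, 2, 0, 3, 2, 4, 3, 1, 5, 4, 3, 2, 0, 6, 5, 4, 3, 1, 2, 7, 6], [0, -1, -1, 1, 0, 1, -1, 0], [(100, [5], 6), (94, [], 6), (93, [], 6), (107, [], 6), (100, [3], 6), (108, [], 6), (92, [], 6), (100, [0], 6)]),
  (93, 5, [7, 6, 5, 4, 3, 1, 2, 0, 3, 2, 4, 3, 1, 5, 4, 3, 2, 0, 6, 5, 4, 3, 1, 7, 6, 5], [-1, -1, 1, 0, 1, -1, 0, 0], [(96, [], 5), (95, [], 5), (108, [], 5), (101, [4], 5), (109, [], 5), (93, [], 5), (101, [2], 5), (101, [0], 5)]),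
  (94, 5, [7, 6, 5, 4, 3, 1, 2, 0, 3, 2, 4, 3, 1, 5, 4, 3, 2, 0, 6, 5, 4, 3, 2, 7, 6, 5], [0, 1, -1, 0, 1, -1, 0, 0], [(102, [5], 5), (108, [], 5), (95, [], 5), (102, [1], 5), (110, [], 5), (94, [], 5), (102, [2], 5), (102, [0], 5)]),
  (95, 4, [7, 6, 5, 4, 3, 1, 2, 0, 3, 2, 4, 3, 1, 5, 4, 3, 2, 0, 6, 5, 4, 3, 7, 6, 5, 4], [-1, 1, 1, 0, -1, 0, 0, 0], [(97, [], 4), (109, [], 4), (110, [], 4), (103, [6], 4), (95, [], 4), (103, [3], 4), (103, [2], 4), (103, [0], 4)]),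
  (96, 4, [7, 6, 5, 4, 3, 1, 2, 0, 3, 2, 4, 3, 1, 5, 4, 3, 2, 6, 5, 4, 3, 1, 7, 6, 5, 4], [1, -1, 0, 1, -1, 0, 0, 0], [(109, [], 4), (97, [], 4), (104, [5], 4), (111, [], 4), (96, [], 4), (104, [3], 4), (104, [2], 4), (104, [0], 4)]),
  (98, 5, [7, 6, 5, 4, 3, 1, 2, 0, 3, 2, 4, 3, 1, 5, 4, 3, 2, 0, 6, 5, 4, 3, 1, 2, 3, 4, 5], [0, 0, 0, 0, 0, -1, 1, 1], [(105, [5], 5), (105, [1], 5), (105, [4], 5), (105, [3], 5), (105, [2], 5), (98, [], 5), (112, [], 5), (113, [], 5)]),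
  (98, 7, [7, 6, 5, 4, 3, 1, 2, 0, 3, 2, 4, 3, 1, 5, 4, 3, 2, 0, 6, 5, 4, 3, 1, 2, 3, 4, 7], [0, 0, 0, 0, -1, 1, 1, -1], [(106, [5], 7), (106, [1], 7), (106, [4], 7), (106, [3], 7), (99, [], 7), (113, [], 7), (114, [], 7), (98, [], 7)]),
  (99, 6, [7, 6, 5, 4, 3, 1, 2, 0, 3, 2, 4, 3, 1, 5, 4, 3, 2, 0, 6, 5, 4, 3, 1, 2, 3, 7, 6], [0, 0, 0, -1, 1, 1, -1, 0], [(107, [5], 6), (107, [1], 6), (107, [4], 6), (100, [], 6), (114, [], 6), (115, [], 6), (99, [], 6), (107, [0], 6)]),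
  (100, 5, [7, 6, 5, 4, 3, 1, 2, 0, 3, 2, 4, 3, 1, 5, 4, 3, 2, 0, 6, 5, 4, 3, 1, 2, 7, 6, 5], [0, -1, -1, 1, 1, -1, 0, 0], [(108, [5], 5), (102, [], 5), (101, [], 5), (115, [], 5), (116, [], 5), (100, [], 5), (108, [2], 5), (108, [0], 5)]),
  (101, 4, [7, 6, 5, 4, 3, 1, 2, 0, 3, 2, 4, 3, 1, 5, 4, 3, 2, 0, 6, 5, 4, 3, 1, 7, 6, 5, 4], [-1, -1, 1, 1, -1, 0, 0, 0], [(104, [], 4), (103, [], 4), (116, [], 4), (117, [], 4), (101, [], 4), (109, [3], 4), (109, [2], 4), (109, [0], 4)])]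

/-- Part 11 of `table8`. -/
def table8Part11 : List (Node 8) := [
  (102, 4, [7, 6, 5, 4, 3, 1, 2, 0, 3, 2, 4, 3, 1, 5, 4, 3, 2, 0, 6, 5, 4, 3, 2, 7, 6, 5, 4], [0, 1, -1, 1, -1, 0, 0, 0], [(110, [5], 4), (116, [], 4), (103, [], 4), (118, [], 4), (102, [], 4), (110, [3], 4), (110, [2], 4), (110, [0], 4)]),
  (104, 3, [7, 6, 5, 4, 3, 1, 2, 0, 3, 2, 4, 3, 1, 5, 4, 3, 2, 6, 5, 4, 3, 1, 7, 6, 5, 4, 3], [1, 0, 1, -1, 0, 0, 0, 0], [(117, [], 3), (111, [6], 3), (119, [], 3), (104, [], 3), (111, [4], 3), (111, [3], 3), (111, [2], 3), (111, [0], 3)]),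
  (105, 6, [7, 6, 5, 4, 3, 1, 2, 0, 3, 2, 4, 3, 1, 5, 4, 3, 2, 0, 6, 5, 4, 3, 1, 2, 3, 4, 5, 6], [0, 0, 0, 0, 0, 0, -1, 2], [(112, [5], 6), (112, [1], 6), (112, [4], 6), (112, [3], 6), (112, [2], 6), (112, [0], 6), (105, [], 6), (120, [], 6)]),
  (105, 7, [7, 6, 5, 4, 3, 1, 2, 0, 3, 2, 4, 3, 1, 5, 4, 3, 2, 0, 6, 5, 4, 3, 1, 2, 3, 4, 5, 7], [0, 0, 0, 0, 0, -1, 2, -1], [(113, [5], 7), (113, [1], 7), (113, [4], 7), (113, [3], 7), (113, [2], 7), (106, [], 7), (121, [], 7), (105, [], 7)]),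
  (106, 6, [7, 6, 5, 4, 3, 1, 2, 0, 3, 2, 4, 3, 1, 5, 4, 3, 2, 0, 6, 5, 4, 3, 1, 2, 3, 4, 7, 6], [0, 0, 0, 0, -1, 2, -1, 0], [(114, [5], 6), (114, [1], 6), (114, [4], 6), (114, [3], 6), (107, [], 6), (122, [], 6), (106, [], 6), (114, [0], 6)]),
  (107, 5, [7, 6, 5, 4, 3, 1, 2, 0, 3, 2, 4, 3, 1, 5, 4, 3, 2, 0, 6, 5, 4, 3, 1, 2, 3, 7, 6, 5], [0, 0, 0, -1, 2, -1, 0, 0], [(115, [5], 5), (115, [1], 5), (115, [4], 5), (108, [], 5), (123, [], 5), (107, [], 5), (115, [2], 5), (115, [0], 5)]),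
  (108, 4, [7, 6, 5, 4, 3, 1, 2, 0, 3, 2, 4, 3, 1, 5, 4, 3, 2, 0, 6, 5, 4, 3, 1, 2, 7, 6, 5, 4], [0, -1, -1, 2, -1, 0, 0, 0], [(116, [5], 4), (110, [], 4), (109, [], 4), (124, [], 4), (108, [], 4), (116, [3], 4), (116, [2], 4), (116, [0], 4)]),
  (109, 3, [7, 6, 5, 4, 3, 1, 2, 0, 3, 2, 4, 3, 1, 5, 4, 3, 2, 0, 6, 5, 4, 3, 1, 7, 6, 5, 4, 3], [-1, 0, 2, -1, 0, 0, 0, 0], [(111, [], 3), (117, [6], 3), (125, [], 3), (109, [], 3), (117, [4], 3), (117, [3], 3), (117, [2], 3), (117, [0], 3)]),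
  (110, 3, [7, 6, 5, 4, 3, 1, 2, 0, 3, 2, 4, 3, 1, 5, 4, 3, 2, 0, 6, 5, 4, 3, 2, 7, 6, 5, 4, 3], [0, 2, 0, -1, 0, 0, 0, 0], [(118, [5], 3), (126, [], 3), (118, [6], 3), (110, [], 3), (118, [1], 3), (118, [3], 3), (118, [2], 3), (118, [0], 3)]),
  (111, 2, [7, 6, 5, 4, 3, 1, 2, 0, 3, 2, 4, 3, 1, 5, 4, 3, 2, 6, 5, 4, 3, 1, 7, 6, 5, 4, 3, 2], [2, 0, -1, 0, 0, 0, 0, 0], [(127, [], 2), (119, [6], 2), (111, [], 2), (119, [5], 2), (119, [4], 2), (119, [3], 2), (119, [2], 2), (119, [0], 2)])]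

/-- Part 12 of `table8`. -/
def table8Part12 : List (Node 8) := [
  (112, 7, [7, 6, 5, 4, 3, 1, 2, 0, 3, 2, 4, 3, 1, 5, 4, 3, 2, 0, 6, 5, 4, 3, 1, 2, 3, 4, 5, 6, 7], [0, 0, 0, 0, 0, 0, 1, -2], [(120, [5], 7), (120, [1], 7), (120, [4], 7), (120, [3], 7), (120, [2], 7), (120, [0], 7), (128, [], 7), (112, [], 7)]),
  (113, 6, [7, 6, 5, 4, 3, 1, 2, 0, 3, 2, 4, 3, 1, 5, 4, 3, 2, 0, 6, 5, 4, 3, 1, 2, 3, 4, 5, 7, 6], [0, 0, 0, 0, 0, 1, -2, 1], [(121, [5], 6), (121, [1], 6), (121, [4], 6), (121, [3], 6), (121, [2], 6), (129, [], 6), (113, [], 6), (128, [], 6)]),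
  (114, 5, [7, 6, 5, 4, 3, 1, 2, 0, 3, 2, 4, 3, 1, 5, 4, 3, 2, 0, 6, 5, 4, 3, 1, 2, 3, 4, 7, 6, 5], [0, 0, 0, 0, 1, -2, 1, 0], [(122, [5], 5), (122, [1], 5), (122, [4], 5), (122, [3], 5), (130, [], 5), (114, [], 5), (129, [], 5), (122, [0], 5)]),
  (115, 4, [7, 6, 5, 4, 3, 1, 2, 0, 3, 2, 4, 3, 1, 5, 4, 3, 2, 0, 6, 5, 4, 3, 1, 2, 3, 7, 6, 5, 4], [0, 0, 0, 1, -2, 1, 0, 0], [(123, [5], 4), (123, [1], 4), (123, [4], 4), (131, [], 4), (115, [], 4), (130, [], 4), (123, [2], 4), (123, [0], 4)]),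
  (116, 3, [7, 6, 5, 4, 3, 1, 2, 0, 3, 2, 4, 3, 1, 5, 4, 3, 2, 0, 6, 5, 4, 3, 1, 2, 7, 6, 5, 4, 3], [0, 1, 1, -2, 1, 0, 0, 0], [(124, [5], 3), (132, [], 3), (133, [], 3), (116, [], 3), (131, [], 3), (124, [3], 3), (124, [2], 3), (124, [0], 3)]),
  (117, 2, [7, 6, 5, 4, 3, 1, 2, 0, 3, 2, 4, 3, 1, 5, 4, 3, 2, 0, 6, 5, 4, 3, 1, 7, 6, 5, 4, 3, 2], [1, 0, -2, 1, 0, 0, 0, 0], [(134, [], 2), (125, [6], 2), (117, [], 2), (133, [], 2), (125, [4], 2), (125, [3], 2), (125, [2], 2), (125, [0], 2)]),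
  (118, 1, [7, 6, 5, 4, 3, 1, 2, 0, 3, 2, 4, 3, 1, 5, 4, 3, 2, 0, 6, 5, 4, 3, 2, 7, 6, 5, 4, 3, 1], [0, -2, 0, 1, 0, 0, 0, 0], [(126, [5], 1), (118, [], 1), (126, [6], 1), (132, [], 1), (126, [1], 1), (126, [3], 1), (126, [2], 1), (126, [0], 1)]),
  (119, 0, [7, 6, 5, 4, 3, 1, 2, 0, 3, 2, 4, 3, 1, 5, 4, 3, 2, 6, 5, 4, 3, 1, 7, 6, 5, 4, 3, 2, 0], [-2, 0, 1, 0, 0, 0, 0, 0], [(119, [], 0), (127, [6], 0), (134, [], 0), (127, [5], 0), (127, [4], 0), (127, [3], 0), (127, [2], 0), (127, [0], 0)]),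
  (120, 6, [7, 6, 5, 4, 3, 1, 2, 0, 3, 2, 4, 3, 1, 5, 4, 3, 2, 0, 6, 5, 4, 3, 1, 2, 3, 4, 5, 6, 7, 6], [0, 0, 0, 0, 0, 1, -1, -1], [(128, [5], 6), (128, [1], 6), (128, [4], 6), (128, [3], 6), (128, [2], 6), (135, [], 6), (120, [], 6), (121, [], 6)]),
  (121, 5, [7, 6, 5, 4, 3, 1, 2, 0, 3, 2, 4, 3, 1, 5, 4, 3, 2, 0, 6, 5, 4, 3, 1, 2, 3, 4, 5, 7, 6, 5], [0, 0, 0, 0, 1, -1, -1, 1], [(129, [5], 5), (129, [1], 5), (129, [4], 5), (129, [3], 5), (136, [], 5), (121, [], 5), (122, [], 5), (135, [], 5)])]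

/-- Part 13 of `table8`. -/
def table8Part13 : List (Node 8) := [
  (122, 4, [7, 6, 5, 4, 3, 1, 2, 0, 3, 2, 4, 3, 1, 5, 4, 3, 2, 0, 6, 5, 4, 3, 1, 2, 3, 4, 7, 6, 5, 4], [0, 0, 0, 1, -1, -1, 1, 0], [(130, [5], 4), (130, [1], 4), (130, [4], 4), (137, [], 4), (122, [], 4), (123, [], 4), (136, [], 4), (130, [0], 4)]),
  (123, 3, [7, 6, 5, 4, 3, 1, 2, 0, 3, 2, 4, 3, 1, 5, 4, 3, 2, 0, 6, 5, 4, 3, 1, 2, 3, 7, 6, 5, 4, 3], [0, 1, 1, -1, -1, 1, 0, 0], [(131, [5], 3), (138, [], 3), (139, [], 3), (123, [], 3), (124, [], 3), (137, [], 3), (131, [2], 3), (131, [0], 3)]),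
  (124, 1, [7, 6, 5, 4, 3, 1, 2, 0, 3, 2, 4, 3, 1, 5, 4, 3, 2, 0, 6, 5, 4, 3, 1, 2, 7, 6, 5, 4, 3, 1], [0, -1, 1, -1, 1, 0, 0, 0], [(132, [5], 1), (124, [], 1), (140, [], 1), (126, [], 1), (138, [], 1), (132, [3], 1), (132, [2], 1), (132, [0], 1)]),
  (124, 2, [7, 6, 5, 4, 3, 1, 2, 0, 3, 2, 4, 3, 1, 5, 4, 3, 2, 0, 6, 5, 4, 3, 1, 2, 7, 6, 5, 4, 3, 2], [1, 1, -1, -1, 1, 0, 0, 0], [(141, [], 2), (140, [], 2), (124, [], 2), (125, [], 2), (139, [], 2), (133, [3], 2), (133, [2], 2), (133, [0], 2)]),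
  (125, 0, [7, 6, 5, 4, 3, 1, 2, 0, 3, 2, 4, 3, 1, 5, 4, 3, 2, 0, 6, 5, 4, 3, 1, 7, 6, 5, 4, 3, 2, 0], [-1, 0, -1, 1, 0, 0, 0, 0], [(125, [], 0), (134, [6], 0), (127, [], 0), (141, [], 0), (134, [4], 0), (134, [3], 0), (134, [2], 0), (134, [0], 0)]),
  (128, 5, [7, 6, 5, 4, 3, 1, 2, 0, 3, 2, 4, 3, 1, 5, 4, 3, 2, 0, 6, 5, 4, 3, 1, 2, 3, 4, 5, 6, 7, 6, 5], [0, 0, 0, 0, 1, -1, 0, -1], [(135, [5], 5), (135, [1], 5), (135, [4], 5), (135, [3], 5), (142, [], 5), (128, [], 5), (135, [0], 5), (129, [], 5)]),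
  (129, 4, [7, 6, 5, 4, 3, 1, 2, 0, 3, 2, 4, 3, 1, 5, 4, 3, 2, 0, 6, 5, 4, 3, 1, 2, 3, 4, 5, 7, 6, 5, 4], [0, 0, 0, 1, -1, 0, -1, 1], [(136, [5], 4), (136, [1], 4), (136, [4], 4), (143, [], 4), (129, [], 4), (136, [2], 4), (130, [], 4), (142, [], 4)]),
  (130, 3, [7, 6, 5, 4, 3, 1, 2, 0, 3, 2, 4, 3, 1, 5, 4, 3, 2, 0, 6, 5, 4, 3, 1, 2, 3, 4, 7, 6, 5, 4, 3], [0, 1, 1, -1, 0, -1, 1, 0], [(137, [5], 3), (144, [], 3), (145, [], 3), (130, [], 3), (137, [3], 3), (131, [], 3), (143, [], 3), (137, [0], 3)]),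
  (131, 1, [7, 6, 5, 4, 3, 1, 2, 0, 3, 2, 4, 3, 1, 5, 4, 3, 2, 0, 6, 5, 4, 3, 1, 2, 3, 7, 6, 5, 4, 3, 1], [0, -1, 1, 0, -1, 1, 0, 0], [(138, [5], 1), (131, [], 1), (146, [], 1), (138, [1], 1), (132, [], 1), (144, [], 1), (138, [2], 1), (138, [0], 1)]),
  (131, 2, [7, 6, 5, 4, 3, 1, 2, 0, 3, 2, 4, 3, 1, 5, 4, 3, 2, 0, 6, 5, 4, 3, 1, 2, 3, 7, 6, 5, 4, 3, 2], [1, 1, -1, 0, -1, 1, 0, 0], [(147, [], 2), (146, [], 2), (131, [], 2), (139, [4], 2), (133, [], 2), (145, [], 2), (139, [2], 2), (139, [0], 2)])]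

/-- Part 14 of `table8`. -/
def table8Part14 : List (Node 8) := [
  (132, 2, [7, 6, 5, 4, 3, 1, 2, 0, 3, 2, 4, 3, 1, 5, 4, 3, 2, 0, 6, 5, 4, 3, 1, 2, 7, 6, 5, 4, 3, 1, 2], [1, -1, -1, 0, 1, 0, 0, 0], [(148, [], 2), (133, [], 2), (132, [], 2), (140, [6], 2), (146, [], 2), (140, [3], 2), (140, [2], 2), (140, [0], 2)]),
  (133, 0, [7, 6, 5, 4, 3, 1, 2, 0, 3, 2, 4, 3, 1, 5, 4, 3, 2, 0, 6, 5, 4, 3, 1, 2, 7, 6, 5, 4, 3, 2, 0], [-1, 1, 0, -1, 1, 0, 0, 0], [(133, [], 0), (148, [], 0), (141, [5], 0), (134, [], 0), (147, [], 0), (141, [3], 0), (141, [2], 0), (141, [0], 0)]),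
  (135, 4, [7, 6, 5, 4, 3, 1, 2, 0, 3, 2, 4, 3, 1, 5, 4, 3, 2, 0, 6, 5, 4, 3, 1, 2, 3, 4, 5, 6, 7, 6, 5, 4], [0, 0, 0, 1, -1, 0, 0, -1], [(142, [5], 4), (142, [1], 4), (142, [4], 4), (149, [], 4), (135, [], 4), (142, [2], 4), (142, [0], 4), (136, [], 4)]),
  (136, 3, [7, 6, 5, 4, 3, 1, 2, 0, 3, 2, 4, 3, 1, 5, 4, 3, 2, 0, 6, 5, 4, 3, 1, 2, 3, 4, 5, 7, 6, 5, 4, 3], [0, 1, 1, -1, 0, 0, -1, 1], [(143, [5], 3), (150, [], 3), (151, [], 3), (136, [], 3), (143, [3], 3), (143, [2], 3), (137, [], 3), (149, [], 3)]),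
  (137, 1, [7, 6, 5, 4, 3, 1, 2, 0, 3, 2, 4, 3, 1, 5, 4, 3, 2, 0, 6, 5, 4, 3, 1, 2, 3, 4, 7, 6, 5, 4, 3, 1], [0, -1, 1, 0, 0, -1, 1, 0], [(144, [5], 1), (137, [], 1), (152, [], 1), (144, [1], 1), (144, [3], 1), (138, [], 1), (150, [], 1), (144, [0], 1)]),
  (137, 2, [7, 6, 5, 4, 3, 1, 2, 0, 3, 2, 4, 3, 1, 5, 4, 3, 2, 0, 6, 5, 4, 3, 1, 2, 3, 4, 7, 6, 5, 4, 3, 2], [1, 1, -1, 0, 0, -1, 1, 0], [(153, [], 2), (152, [], 2), (137, [], 2), (145, [4], 2), (145, [3], 2), (139, [], 2), (151, [], 2), (145, [0], 2)]),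
  (138, 2, [7, 6, 5, 4, 3, 1, 2, 0, 3, 2, 4, 3, 1, 5, 4, 3, 2, 0, 6, 5, 4, 3, 1, 2, 3, 7, 6, 5, 4, 3, 1, 2], [1, -1, -1, 1, -1, 1, 0, 0], [(154, [], 2), (139, [], 2), (138, [], 2), (155, [], 2), (140, [], 2), (152, [], 2), (146, [2], 2), (146, [0], 2)]),
  (139, 0, [7, 6, 5, 4, 3, 1, 2, 0, 3, 2, 4, 3, 1, 5, 4, 3, 2, 0, 6, 5, 4, 3, 1, 2, 3, 7, 6, 5, 4, 3, 2, 0], [-1, 1, 0, 0, -1, 1, 0, 0], [(139, [], 0), (154, [], 0), (147, [5], 0), (147, [4], 0), (141, [], 0), (153, [], 0), (147, [2], 0), (147, [0], 0)]),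
  (140, 0, [7, 6, 5, 4, 3, 1, 2, 0, 3, 2, 4, 3, 1, 5, 4, 3, 2, 0, 6, 5, 4, 3, 1, 2, 7, 6, 5, 4, 3, 1, 2, 0], [-1, -1, 0, 0, 1, 0, 0, 0], [(140, [], 0), (141, [], 0), (148, [5], 0), (148, [6], 0), (154, [], 0), (148, [3], 0), (148, [2], 0), (148, [0], 0)]),
  (142, 3, [7, 6, 5, 4, 3, 1, 2, 0, 3, 2, 4, 3, 1, 5, 4, 3, 2, 0, 6, 5, 4, 3, 1, 2, 3, 4, 5, 6, 7, 6, 5, 4, 3], [0, 1, 1, -1, 0, 0, 0, -1], [(149, [5], 3), (156, [], 3), (157, [], 3), (142, [], 3), (149, [3], 3), (149, [2], 3), (149, [0], 3), (143, [], 3)])]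

/-- Part 15 of `table8`. -/
def table8Part15 : List (Node 8) := [
  (143, 1, [7, 6, 5, 4, 3, 1, 2, 0, 3, 2, 4, 3, 1, 5, 4, 3, 2, 0, 6, 5, 4, 3, 1, 2, 3, 4, 5, 7, 6, 5, 4, 3, 1], [0, -1, 1, 0, 0, 0, -1, 1], [(150, [5], 1), (143, [], 1), (158, [], 1), (150, [1], 1), (150, [3], 1), (150, [2], 1), (144, [], 1), (156, [], 1)]),
  (143, 2, [7, 6, 5, 4, 3, 1, 2, 0, 3, 2, 4, 3, 1, 5, 4, 3, 2, 0, 6, 5, 4, 3, 1, 2, 3, 4, 5, 7, 6, 5, 4, 3, 2], [1, 1, -1, 0, 0, 0, -1, 1], [(159, [], 2), (158, [], 2), (143, [], 2), (151, [4], 2), (151, [3], 2), (151, [2], 2), (145, [], 2), (157, [], 2)]),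
  (144, 2, [7, 6, 5, 4, 3, 1, 2, 0, 3, 2, 4, 3, 1, 5, 4, 3, 2, 0, 6, 5, 4, 3, 1, 2, 3, 4, 7, 6, 5, 4, 3, 1, 2], [1, -1, -1, 1, 0, -1, 1, 0], [(160, [], 2), (145, [], 2), (144, [], 2), (161, [], 2), (152, [3], 2), (146, [], 2), (158, [], 2), (152, [0], 2)]),
  (145, 0, [7, 6, 5, 4, 3, 1, 2, 0, 3, 2, 4, 3, 1, 5, 4, 3, 2, 0, 6, 5, 4, 3, 1, 2, 3, 4, 7, 6, 5, 4, 3, 2, 0], [-1, 1, 0, 0, 0, -1, 1, 0], [(145, [], 0), (160, [], 0), (153, [5], 0), (153, [4], 0), (153, [3], 0), (147, [], 0), (159, [], 0), (153, [0], 0)]),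
  (146, 0, [7, 6, 5, 4, 3, 1, 2, 0, 3, 2, 4, 3, 1, 5, 4, 3, 2, 0, 6, 5, 4, 3, 1, 2, 3, 7, 6, 5, 4, 3, 1, 2, 0], [-1, -1, 0, 1, -1, 1, 0, 0], [(146, [], 0), (147, [], 0), (154, [5], 0), (162, [], 0), (148, [], 0), (160, [], 0), (154, [2], 0), (154, [0], 0)]),
  (146, 3, [7, 6, 5, 4, 3, 1, 2, 0, 3, 2, 4, 3, 1, 5, 4, 3, 2, 0, 6, 5, 4, 3, 1, 2, 3, 7, 6, 5, 4, 3, 1, 2, 3], [1, 0, 0, -1, 0, 1, 0, 0], [(162, [], 3), (155, [4], 3), (155, [1], 3), (146, [], 3), (155, [6], 3), (161, [], 3), (155, [2], 3), (155, [0], 3)]),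
  (149, 1, [7, 6, 5, 4, 3, 1, 2, 0, 3, 2, 4, 3, 1, 5, 4, 3, 2, 0, 6, 5, 4, 3, 1, 2, 3, 4, 5, 6, 7, 6, 5, 4, 3, 1], [0, -1, 1, 0, 0, 0, 0, -1], [(156, [5], 1), (149, [], 1), (163, [], 1), (156, [1], 1), (156, [3], 1), (156, [2], 1), (156, [0], 1), (150, [], 1)]),
  (149, 2, [7, 6, 5, 4, 3, 1, 2, 0, 3, 2, 4, 3, 1, 5, 4, 3, 2, 0, 6, 5, 4, 3, 1, 2, 3, 4, 5, 6, 7, 6, 5, 4, 3, 2], [1, 1, -1, 0, 0, 0, 0, -1], [(164, [], 2), (163, [], 2), (149, [], 2), (157, [4], 2), (157, [3], 2), (157, [2], 2), (157, [0], 2), (151, [], 2)]),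
  (150, 2, [7, 6, 5, 4, 3, 1, 2, 0, 3, 2, 4, 3, 1, 5, 4, 3, 2, 0, 6, 5, 4, 3, 1, 2, 3, 4, 5, 7, 6, 5, 4, 3, 1, 2], [1, -1, -1, 1, 0, 0, -1, 1], [(165, [], 2), (151, [], 2), (150, [], 2), (166, [], 2), (158, [3], 2), (158, [2], 2), (152, [], 2), (163, [], 2)]),
  (151, 0, [7, 6, 5, 4, 3, 1, 2, 0, 3, 2, 4, 3, 1, 5, 4, 3, 2, 0, 6, 5, 4, 3, 1, 2, 3, 4, 5, 7, 6, 5, 4, 3, 2, 0], [-1, 1, 0, 0, 0, 0, -1, 1], [(151, [], 0), (165, [], 0), (159, [5], 0), (159, [4], 0), (159, [3], 0), (159, [2], 0), (153, [], 0), (164, [], 0)])]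

/-- Part 16 of `table8`. -/
def table8Part16 : List (Node 8) := [
  (152, 0, [7, 6, 5, 4, 3, 1, 2, 0, 3, 2, 4, 3, 1, 5, 4, 3, 2, 0, 6, 5, 4, 3, 1, 2, 3, 4, 7, 6, 5, 4, 3, 1, 2, 0], [-1, -1, 0, 1, 0, -1, 1, 0], [(152, [], 0), (153, [], 0), (160, [5], 0), (167, [], 0), (160, [3], 0), (154, [], 0), (165, [], 0), (160, [0], 0)]),
  (152, 3, [7, 6, 5, 4, 3, 1, 2, 0, 3, 2, 4, 3, 1, 5, 4, 3, 2, 0, 6, 5, 4, 3, 1, 2, 3, 4, 7, 6, 5, 4, 3, 1, 2, 3], [1, 0, 0, -1, 1, -1, 1, 0], [(167, [], 3), (161, [4], 3), (161, [1], 3), (152, [], 3), (168, [], 3), (155, [], 3), (166, [], 3), (161, [0], 3)]),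
  (154, 3, [7, 6, 5, 4, 3, 1, 2, 0, 3, 2, 4, 3, 1, 5, 4, 3, 2, 0, 6, 5, 4, 3, 1, 2, 3, 7, 6, 5, 4, 3, 1, 2, 0, 3], [-1, 0, 1, -1, 0, 1, 0, 0], [(155, [], 3), (162, [4], 3), (169, [], 3), (154, [], 3), (162, [6], 3), (167, [], 3), (162, [2], 3), (162, [0], 3)]),
  (156, 2, [7, 6, 5, 4, 3, 1, 2, 0, 3, 2, 4, 3, 1, 5, 4, 3, 2, 0, 6, 5, 4, 3, 1, 2, 3, 4, 5, 6, 7, 6, 5, 4, 3, 1, 2], [1, -1, -1, 1, 0, 0, 0, -1], [(170, [], 2), (157, [], 2), (156, [], 2), (171, [], 2), (163, [3], 2), (163, [2], 2), (163, [0], 2), (158, [], 2)]),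
  (157, 0, [7, 6, 5, 4, 3, 1, 2, 0, 3, 2, 4, 3, 1, 5, 4, 3, 2, 0, 6, 5, 4, 3, 1, 2, 3, 4, 5, 6, 7, 6, 5, 4, 3, 2, 0], [-1, 1, 0, 0, 0, 0, 0, -1], [(157, [], 0), (170, [], 0), (164, [5], 0), (164, [4], 0), (164, [3], 0), (164, [2], 0), (164, [0], 0), (159, [], 0)]),
  (158, 0, [7, 6, 5, 4, 3, 1, 2, 0, 3, 2, 4, 3, 1, 5, 4, 3, 2, 0, 6, 5, 4, 3, 1, 2, 3, 4, 5, 7, 6, 5, 4, 3, 1, 2, 0], [-1, -1, 0, 1, 0, 0, -1, 1], [(158, [], 0), (159, [], 0), (165, [5], 0), (172, [], 0), (165, [3], 0), (165, [2], 0), (160, [], 0), (170, [], 0)]),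
  (158, 3, [7, 6, 5, 4, 3, 1, 2, 0, 3, 2, 4, 3, 1, 5, 4, 3, 2, 0, 6, 5, 4, 3, 1, 2, 3, 4, 5, 7, 6, 5, 4, 3, 1, 2, 3], [1, 0, 0, -1, 1, 0, -1, 1], [(172, [], 3), (166, [4], 3), (166, [1], 3), (158, [], 3), (173, [], 3), (166, [2], 3), (161, [], 3), (171, [], 3)]),
  (160, 3, [7, 6, 5, 4, 3, 1, 2, 0, 3, 2, 4, 3, 1, 5, 4, 3, 2, 0, 6, 5, 4, 3, 1, 2, 3, 4, 7, 6, 5, 4, 3, 1, 2, 0, 3], [-1, 0, 1, -1, 1, -1, 1, 0], [(161, [], 3), (167, [4], 3), (174, [], 3), (160, [], 3), (175, [], 3), (162, [], 3), (172, [], 3), (167, [0], 3)]),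
  (161, 4, [7, 6, 5, 4, 3, 1, 2, 0, 3, 2, 4, 3, 1, 5, 4, 3, 2, 0, 6, 5, 4, 3, 1, 2, 3, 4, 7, 6, 5, 4, 3, 1, 2, 3, 4], [1, 0, 0, 0, -1, 0, 1, 0], [(175, [], 4), (168, [4], 4), (168, [1], 4), (168, [3], 4), (161, [], 4), (168, [6], 4), (173, [], 4), (168, [0], 4)]),
  (162, 2, [7, 6, 5, 4, 3, 1, 2, 0, 3, 2, 4, 3, 1, 5, 4, 3, 2, 0, 6, 5, 4, 3, 1, 2, 3, 7, 6, 5, 4, 3, 1, 2, 0, 3, 2], [0, 0, -1, 0, 0, 1, 0, 0], [(169, [1], 2), (169, [4], 2), (162, [], 2), (169, [5], 2), (169, [6], 2), (174, [], 2), (169, [2], 2), (169, [0], 2)])]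

/-- Part 17 of `table8`. -/
def table8Part17 : List (Node 8) := [
  (163, 0, [7, 6, 5, 4, 3, 1, 2, 0, 3, 2, 4, 3, 1, 5, 4, 3, 2, 0, 6, 5, 4, 3, 1, 2, 3, 4, 5, 6, 7, 6, 5, 4, 3, 1, 2, 0], [-1, -1, 0, 1, 0, 0, 0, -1], [(163, [], 0), (164, [], 0), (170, [5], 0), (176, [], 0), (170, [3], 0), (170, [2], 0), (170, [0], 0), (165, [], 0)]),
  (163, 3, [7, 6, 5, 4, 3, 1, 2, 0, 3, 2, 4, 3, 1, 5, 4, 3, 2, 0, 6, 5, 4, 3, 1, 2, 3, 4, 5, 6, 7, 6, 5, 4, 3, 1, 2, 3], [1, 0, 0, -1, 1, 0, 0, -1], [(176, [], 3), (171, [4], 3), (171, [1], 3), (163, [], 3), (177, [], 3), (171, [2], 3), (171, [0], 3), (166, [], 3)]),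
  (165, 3, [7, 6, 5, 4, 3, 1, 2, 0, 3, 2, 4, 3, 1, 5, 4, 3, 2, 0, 6, 5, 4, 3, 1, 2, 3, 4, 5, 7, 6, 5, 4, 3, 1, 2, 0, 3], [-1, 0, 1, -1, 1, 0, -1, 1], [(166, [], 3), (172, [4], 3), (178, [], 3), (165, [], 3), (179, [], 3), (172, [2], 3), (167, [], 3), (176, [], 3)]),
  (166, 4, [7, 6, 5, 4, 3, 1, 2, 0, 3, 2, 4, 3, 1, 5, 4, 3, 2, 0, 6, 5, 4, 3, 1, 2, 3, 4, 5, 7, 6, 5, 4, 3, 1, 2, 3, 4], [1, 0, 0, 0, -1, 1, -1, 1], [(179, [], 4), (173, [4], 4), (173, [1], 4), (173, [3], 4), (166, [], 4), (180, [], 4), (168, [], 4), (177, [], 4)]),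
  (167, 2, [7, 6, 5, 4, 3, 1, 2, 0, 3, 2, 4, 3, 1, 5, 4, 3, 2, 0, 6, 5, 4, 3, 1, 2, 3, 4, 7, 6, 5, 4, 3, 1, 2, 0, 3, 2], [0, 0, -1, 0, 1, -1, 1, 0], [(174, [1], 2), (174, [4], 2), (167, [], 2), (174, [5], 2), (181, [], 2), (169, [], 2), (178, [], 2), (174, [0], 2)]),
  (167, 4, [7, 6, 5, 4, 3, 1, 2, 0, 3, 2, 4, 3, 1, 5, 4, 3, 2, 0, 6, 5, 4, 3, 1, 2, 3, 4, 7, 6, 5, 4, 3, 1, 2, 0, 3, 4], [-1, 0, 1, 0, -1, 0, 1, 0], [(168, [], 4), (175, [4], 4), (181, [], 4), (175, [3], 4), (167, [], 4), (175, [6], 4), (179, [], 4), (175, [0], 4)]),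
  (170, 3, [7, 6, 5, 4, 3, 1, 2, 0, 3, 2, 4, 3, 1, 5, 4, 3, 2, 0, 6, 5, 4, 3, 1, 2, 3, 4, 5, 6, 7, 6, 5, 4, 3, 1, 2, 0, 3], [-1, 0, 1, -1, 1, 0, 0, -1], [(171, [], 3), (176, [4], 3), (182, [], 3), (170, [], 3), (183, [], 3), (176, [2], 3), (176, [0], 3), (172, [], 3)]),
  (171, 4, [7, 6, 5, 4, 3, 1, 2, 0, 3, 2, 4, 3, 1, 5, 4, 3, 2, 0, 6, 5, 4, 3, 1, 2, 3, 4, 5, 6, 7, 6, 5, 4, 3, 1, 2, 3, 4], [1, 0, 0, 0, -1, 1, 0, -1], [(183, [], 4), (177, [4], 4), (177, [1], 4), (177, [3], 4), (171, [], 4), (184, [], 4), (177, [0], 4), (173, [], 4)]),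
  (172, 2, [7, 6, 5, 4, 3, 1, 2, 0, 3, 2, 4, 3, 1, 5, 4, 3, 2, 0, 6, 5, 4, 3, 1, 2, 3, 4, 5, 7, 6, 5, 4, 3, 1, 2, 0, 3, 2], [0, 0, -1, 0, 1, 0, -1, 1], [(178, [1], 2), (178, [4], 2), (172, [], 2), (178, [5], 2), (185, [], 2), (178, [2], 2), (174, [], 2), (182, [], 2)]),
  (172, 4, [7, 6, 5, 4, 3, 1, 2, 0, 3, 2, 4, 3, 1, 5, 4, 3, 2, 0, 6, 5, 4, 3, 1, 2, 3, 4, 5, 7, 6, 5, 4, 3, 1, 2, 0, 3, 4], [-1, 0, 1, 0, -1, 1, -1, 1], [(173, [], 4), (179, [4], 4), (185, [], 4), (179, [3], 4), (172, [], 4), (186, [], 4), (175, [], 4), (183, [], 4)])]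

/-- Part 18 of `table8`. -/
def table8Part18 : List (Node 8) := [
  (173, 5, [7, 6, 5, 4, 3, 1, 2, 0, 3, 2, 4, 3, 1, 5, 4, 3, 2, 0, 6, 5, 4, 3, 1, 2, 3, 4, 5, 7, 6, 5, 4, 3, 1, 2, 3, 4, 5], [1, 0, 0, 0, 0, -1, 0, 1], [(186, [], 5), (180, [4], 5), (180, [1], 5), (180, [3], 5), (180, [2], 5), (173, [], 5), (180, [6], 5), (184, [], 5)]),
  (174, 4, [7, 6, 5, 4, 3, 1, 2, 0, 3, 2, 4, 3, 1, 5, 4, 3, 2, 0, 6, 5, 4, 3, 1, 2, 3, 4, 7, 6, 5, 4, 3, 1, 2, 0, 3, 2, 4], [0, 0, -1, 1, -1, 0, 1, 0], [(181, [1], 4), (181, [4], 4), (175, [], 4), (187, [], 4), (174, [], 4), (181, [6], 4), (185, [], 4), (181, [0], 4)]),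
  (176, 2, [7, 6, 5, 4, 3, 1, 2, 0, 3, 2, 4, 3, 1, 5, 4, 3, 2, 0, 6, 5, 4, 3, 1, 2, 3, 4, 5, 6, 7, 6, 5, 4, 3, 1, 2, 0, 3, 2], [0, 0, -1, 0, 1, 0, 0, -1], [(182, [1], 2), (182, [4], 2), (176, [], 2), (182, [5], 2), (188, [], 2), (182, [2], 2), (182, [0], 2), (178, [], 2)]),
  (176, 4, [7, 6, 5, 4, 3, 1, 2, 0, 3, 2, 4, 3, 1, 5, 4, 3, 2, 0, 6, 5, 4, 3, 1, 2, 3, 4, 5, 6, 7, 6, 5, 4, 3, 1, 2, 0, 3, 4], [-1, 0, 1, 0, -1, 1, 0, -1], [(177, [], 4), (183, [4], 4), (188, [], 4), (183, [3], 4), (176, [], 4), (189, [], 4), (183, [0], 4), (179, [], 4)]),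
  (177, 5, [7, 6, 5, 4, 3, 1, 2, 0, 3, 2, 4, 3, 1, 5, 4, 3, 2, 0, 6, 5, 4, 3, 1, 2, 3, 4, 5, 6, 7, 6, 5, 4, 3, 1, 2, 3, 4, 5], [1, 0, 0, 0, 0, -1, 1, -1], [(189, [], 5), (184, [4], 5), (184, [1], 5), (184, [3], 5), (184, [2], 5), (177, [], 5), (190, [], 5), (180, [], 5)]),
  (178, 4, [7, 6, 5, 4, 3, 1, 2, 0, 3, 2, 4, 3, 1, 5, 4, 3, 2, 0, 6, 5, 4, 3, 1, 2, 3, 4, 5, 7, 6, 5, 4, 3, 1, 2, 0, 3, 2, 4], [0, 0, -1, 1, -1, 1, -1, 1], [(185, [1], 4), (185, [4], 4), (179, [], 4), (191, [], 4), (178, [], 4), (192, [], 4), (181, [], 4), (188, [], 4)]),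
  (179, 5, [7, 6, 5, 4, 3, 1, 2, 0, 3, 2, 4, 3, 1, 5, 4, 3, 2, 0, 6, 5, 4, 3, 1, 2, 3, 4, 5, 7, 6, 5, 4, 3, 1, 2, 0, 3, 4, 5], [-1, 0, 1, 0, 0, -1, 0, 1], [(180, [], 5), (186, [4], 5), (192, [], 5), (186, [3], 5), (186, [2], 5), (179, [], 5), (186, [6], 5), (189, [], 5)]),
  (181, 3, [7, 6, 5, 4, 3, 1, 2, 0, 3, 2, 4, 3, 1, 5, 4, 3, 2, 0, 6, 5, 4, 3, 1, 2, 3, 4, 7, 6, 5, 4, 3, 1, 2, 0, 3, 2, 4, 3], [0, 1, 0, -1, 0, 0, 1, 0], [(187, [1], 3), (193, [], 3), (187, [3], 3), (181, [], 3), (187, [5], 3), (187, [6], 3), (191, [], 3), (187, [0], 3)]),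
  (182, 4, [7, 6, 5, 4, 3, 1, 2, 0, 3, 2, 4, 3, 1, 5, 4, 3, 2, 0, 6, 5, 4, 3, 1, 2, 3, 4, 5, 6, 7, 6, 5, 4, 3, 1, 2, 0, 3, 2, 4], [0, 0, -1, 1, -1, 1, 0, -1], [(188, [1], 4), (188, [4], 4), (183, [], 4), (194, [], 4), (182, [], 4), (195, [], 4), (188, [0], 4), (185, [], 4)]),
  (183, 5, [7, 6, 5, 4, 3, 1, 2, 0, 3, 2, 4, 3, 1, 5, 4, 3, 2, 0, 6, 5, 4, 3, 1, 2, 3, 4, 5, 6, 7, 6, 5, 4, 3, 1, 2, 0, 3, 4, 5], [-1, 0, 1, 0, 0, -1, 1, -1], [(184, [], 5), (189, [4], 5), (195, [], 5), (189, [3], 5), (189, [2], 5), (183, [], 5), (196, [], 5), (186, [], 5)])]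

/-- Part 19 of `table8`. -/
def table8Part19 : List (Node 8) := [
  (184, 6, [7, 6, 5, 4, 3, 1, 2, 0, 3, 2, 4, 3, 1, 5, 4, 3, 2, 0, 6, 5, 4, 3, 1, 2, 3, 4, 5, 6, 7, 6, 5, 4, 3, 1, 2, 3, 4, 5, 6], [1, 0, 0, 0, 0, 0, -1, 0], [(196, [], 6), (190, [4], 6), (190, [1], 6), (190, [3], 6), (190, [2], 6), (190, [0], 6), (184, [], 6), (190, [6], 6)]),
  (185, 3, [7, 6, 5, 4, 3, 1, 2, 0, 3, 2, 4, 3, 1, 5, 4, 3, 2, 0, 6, 5, 4, 3, 1, 2, 3, 4, 5, 7, 6, 5, 4, 3, 1, 2, 0, 3, 2, 4, 3], [0, 1, 0, -1, 0, 1, -1, 1], [(191, [1], 3), (197, [], 3), (191, [3], 3), (185, [], 3), (191, [5], 3), (198, [], 3), (187, [], 3), (194, [], 3)]),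
  (185, 5, [7, 6, 5, 4, 3, 1, 2, 0, 3, 2, 4, 3, 1, 5, 4, 3, 2, 0, 6, 5, 4, 3, 1, 2, 3, 4, 5, 7, 6, 5, 4, 3, 1, 2, 0, 3, 2, 4, 5], [0, 0, -1, 1, 0, -1, 0, 1], [(192, [1], 5), (192, [4], 5), (186, [], 5), (198, [], 5), (192, [2], 5), (185, [], 5), (192, [6], 5), (195, [], 5)]),
  (187, 1, [7, 6, 5, 4, 3, 1, 2, 0, 3, 2, 4, 3, 1, 5, 4, 3, 2, 0, 6, 5, 4, 3, 1, 2, 3, 4, 7, 6, 5, 4, 3, 1, 2, 0, 3, 2, 4, 3, 1], [0, -1, 0, 0, 0, 0, 1, 0], [(193, [1], 1), (187, [], 1), (193, [3], 1), (193, [4], 1), (193, [5], 1), (193, [6], 1), (197, [], 1), (193, [0], 1)]),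
  (188, 3, [7, 6, 5, 4, 3, 1, 2, 0, 3, 2, 4, 3, 1, 5, 4, 3, 2, 0, 6, 5, 4, 3, 1, 2, 3, 4, 5, 6, 7, 6, 5, 4, 3, 1, 2, 0, 3, 2, 4, 3], [0, 1, 0, -1, 0, 1, 0, -1], [(194, [1], 3), (199, [], 3), (194, [3], 3), (188, [], 3), (194, [5], 3), (200, [], 3), (194, [0], 3), (191, [], 3)]),
  (188, 5, [7, 6, 5, 4, 3, 1, 2, 0, 3, 2, 4, 3, 1, 5, 4, 3, 2, 0, 6, 5, 4, 3, 1, 2, 3, 4, 5, 6, 7, 6, 5, 4, 3, 1, 2, 0, 3, 2, 4, 5], [0, 0, -1, 1, 0, -1, 1, -1], [(195, [1], 5), (195, [4], 5), (189, [], 5), (200, [], 5), (195, [2], 5), (188, [], 5), (201, [], 5), (192, [], 5)]),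
  (189, 6, [7, 6, 5, 4, 3, 1, 2, 0, 3, 2, 4, 3, 1, 5, 4, 3, 2, 0, 6, 5, 4, 3, 1, 2, 3, 4, 5, 6, 7, 6, 5, 4, 3, 1, 2, 0, 3, 4, 5, 6], [-1, 0, 1, 0, 0, 0, -1, 0], [(190, [], 6), (196, [4], 6), (201, [], 6), (196, [3], 6), (196, [2], 6), (196, [0], 6), (189, [], 6), (196, [6], 6)]),
  (191, 1, [7, 6, 5, 4, 3, 1, 2, 0, 3, 2, 4, 3, 1, 5, 4, 3, 2, 0, 6, 5, 4, 3, 1, 2, 3, 4, 5, 7, 6, 5, 4, 3, 1, 2, 0, 3, 2, 4, 3, 1], [0, -1, 0, 0, 0, 1, -1, 1], [(197, [1], 1), (191, [], 1), (197, [3], 1), (197, [4], 1), (197, [5], 1), (202, [], 1), (193, [], 1), (199, [], 1)]),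
  (191, 5, [7, 6, 5, 4, 3, 1, 2, 0, 3, 2, 4, 3, 1, 5, 4, 3, 2, 0, 6, 5, 4, 3, 1, 2, 3, 4, 5, 7, 6, 5, 4, 3, 1, 2, 0, 3, 2, 4, 3, 5], [0, 1, 0, -1, 1, -1, 0, 1], [(198, [1], 5), (202, [], 5), (198, [3], 5), (192, [], 5), (203, [], 5), (191, [], 5), (198, [6], 5), (200, [], 5)]),
  (194, 1, [7, 6, 5, 4, 3, 1, 2, 0, 3, 2, 4, 3, 1, 5, 4, 3, 2, 0, 6, 5, 4, 3, 1, 2, 3, 4, 5, 6, 7, 6, 5, 4, 3, 1, 2, 0, 3, 2, 4, 3, 1], [0, -1, 0, 0, 0, 1, 0, -1], [(199, [1], 1), (194, [], 1), (199, [3], 1), (199, [4], 1), (199, [5], 1), (204, [], 1), (199, [0], 1), (197, [], 1)])]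

/-- Part 20 of `table8`. -/
def table8Part20 : List (Node 8) := [
  (194, 5, [7, 6, 5, 4, 3, 1, 2, 0, 3, 2, 4, 3, 1, 5, 4, 3, 2, 0, 6, 5, 4, 3, 1, 2, 3, 4, 5, 6, 7, 6, 5, 4, 3, 1, 2, 0, 3, 2, 4, 3, 5], [0, 1, 0, -1, 1, -1, 1, -1], [(200, [1], 5), (204, [], 5), (200, [3], 5), (195, [], 5), (205, [], 5), (194, [], 5), (206, [], 5), (198, [], 5)]),
  (195, 6, [7, 6, 5, 4, 3, 1, 2, 0, 3, 2, 4, 3, 1, 5, 4, 3, 2, 0, 6, 5, 4, 3, 1, 2, 3, 4, 5, 6, 7, 6, 5, 4, 3, 1, 2, 0, 3, 2, 4, 5, 6], [0, 0, -1, 1, 0, 0, -1, 0], [(201, [1], 6), (201, [4], 6), (196, [], 6), (206, [], 6), (201, [2], 6), (201, [0], 6), (195, [], 6), (201, [6], 6)]),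
  (197, 5, [7, 6, 5, 4, 3, 1, 2, 0, 3, 2, 4, 3, 1, 5, 4, 3, 2, 0, 6, 5, 4, 3, 1, 2, 3, 4, 5, 7, 6, 5, 4, 3, 1, 2, 0, 3, 2, 4, 3, 1, 5], [0, -1, 0, 0, 1, -1, 0, 1], [(202, [1], 5), (198, [], 5), (202, [3], 5), (202, [4], 5), (207, [], 5), (197, [], 5), (202, [6], 5), (204, [], 5)]),
  (198, 4, [7, 6, 5, 4, 3, 1, 2, 0, 3, 2, 4, 3, 1, 5, 4, 3, 2, 0, 6, 5, 4, 3, 1, 2, 3, 4, 5, 7, 6, 5, 4, 3, 1, 2, 0, 3, 2, 4, 3, 5, 4], [0, 1, 0, 0, -1, 0, 0, 1], [(203, [1], 4), (207, [], 4), (203, [3], 4), (203, [2], 4), (198, [], 4), (203, [5], 4), (203, [6], 4), (205, [], 4)]),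
  (199, 5, [7, 6, 5, 4, 3, 1, 2, 0, 3, 2, 4, 3, 1, 5, 4, 3, 2, 0, 6, 5, 4, 3, 1, 2, 3, 4, 5, 6, 7, 6, 5, 4, 3, 1, 2, 0, 3, 2, 4, 3, 1, 5], [0, -1, 0, 0, 1, -1, 1, -1], [(204, [1], 5), (200, [], 5), (204, [3], 5), (204, [4], 5), (208, [], 5), (199, [], 5), (209, [], 5), (202, [], 5)]),
  (200, 4, [7, 6, 5, 4, 3, 1, 2, 0, 3, 2, 4, 3, 1, 5, 4, 3, 2, 0, 6, 5, 4, 3, 1, 2, 3, 4, 5, 6, 7, 6, 5, 4, 3, 1, 2, 0, 3, 2, 4, 3, 5, 4], [0, 1, 0, 0, -1, 0, 1, -1], [(205, [1], 4), (208, [], 4), (205, [3], 4), (205, [2], 4), (200, [], 4), (205, [5], 4), (210, [], 4), (203, [], 4)]),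
  (200, 6, [7, 6, 5, 4, 3, 1, 2, 0, 3, 2, 4, 3, 1, 5, 4, 3, 2, 0, 6, 5, 4, 3, 1, 2, 3, 4, 5, 6, 7, 6, 5, 4, 3, 1, 2, 0, 3, 2, 4, 3, 5, 6], [0, 1, 0, -1, 1, 0, -1, 0], [(206, [1], 6), (209, [], 6), (206, [3], 6), (201, [], 6), (210, [], 6), (206, [0], 6), (200, [], 6), (206, [6], 6)]),
  (202, 4, [7, 6, 5, 4, 3, 1, 2, 0, 3, 2, 4, 3, 1, 5, 4, 3, 2, 0, 6, 5, 4, 3, 1, 2, 3, 4, 5, 7, 6, 5, 4, 3, 1, 2, 0, 3, 2, 4, 3, 1, 5, 4], [0, -1, 0, 1, -1, 0, 0, 1], [(207, [1], 4), (203, [], 4), (207, [3], 4), (211, [], 4), (202, [], 4), (207, [5], 4), (207, [6], 4), (208, [], 4)]),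
  (204, 4, [7, 6, 5, 4, 3, 1, 2, 0, 3, 2, 4, 3, 1, 5, 4, 3, 2, 0, 6, 5, 4, 3, 1, 2, 3, 4, 5, 6, 7, 6, 5, 4, 3, 1, 2, 0, 3, 2, 4, 3, 1, 5, 4], [0, -1, 0, 1, -1, 0, 1, -1], [(208, [1], 4), (205, [], 4), (208, [3], 4), (212, [], 4), (204, [], 4), (208, [5], 4), (213, [], 4), (207, [], 4)]),
  (204, 6, [7, 6, 5, 4, 3, 1, 2, 0, 3, 2, 4, 3, 1, 5, 4, 3, 2, 0, 6, 5, 4, 3, 1, 2, 3, 4, 5, 6, 7, 6, 5, 4, 3, 1, 2, 0, 3, 2, 4, 3, 1, 5, 6], [0, -1, 0, 0, 1, 0, -1, 0], [(209, [1], 6), (206, [], 6), (209, [3], 6), (209, [4], 6), (213, [], 6), (209, [0], 6), (204, [], 6), (209, [6], 6)])]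

/-- Part 21 of `table8`. -/
def table8Part21 : List (Node 8) := [
  (205, 6, [7, 6, 5, 4, 3, 1, 2, 0, 3, 2, 4, 3, 1, 5, 4, 3, 2, 0, 6, 5, 4, 3, 1, 2, 3, 4, 5, 6, 7, 6, 5, 4, 3, 1, 2, 0, 3, 2, 4, 3, 5, 4, 6], [0, 1, 0, 0, -1, 1, -1, 0], [(210, [1], 6), (213, [], 6), (210, [3], 6), (210, [2], 6), (206, [], 6), (214, [], 6), (205, [], 6), (210, [6], 6)]),
  (207, 3, [7, 6, 5, 4, 3, 1, 2, 0, 3, 2, 4, 3, 1, 5, 4, 3, 2, 0, 6, 5, 4, 3, 1, 2, 3, 4, 5, 7, 6, 5, 4, 3, 1, 2, 0, 3, 2, 4, 3, 1, 5, 4, 3], [0, 0, 1, -1, 0, 0, 0, 1], [(211, [1], 3), (211, [2], 3), (215, [], 3), (207, [], 3), (211, [4], 3), (211, [5], 3), (211, [6], 3), (212, [], 3)]),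
  (208, 3, [7, 6, 5, 4, 3, 1, 2, 0, 3, 2, 4, 3, 1, 5, 4, 3, 2, 0, 6, 5, 4, 3, 1, 2, 3, 4, 5, 6, 7, 6, 5, 4, 3, 1, 2, 0, 3, 2, 4, 3, 1, 5, 4, 3], [0, 0, 1, -1, 0, 0, 1, -1], [(212, [1], 3), (212, [2], 3), (216, [], 3), (208, [], 3), (212, [4], 3), (212, [5], 3), (217, [], 3), (211, [], 3)]),
  (208, 6, [7, 6, 5, 4, 3, 1, 2, 0, 3, 2, 4, 3, 1, 5, 4, 3, 2, 0, 6, 5, 4, 3, 1, 2, 3, 4, 5, 6, 7, 6, 5, 4, 3, 1, 2, 0, 3, 2, 4, 3, 1, 5, 4, 6], [0, -1, 0, 1, -1, 1, -1, 0], [(213, [1], 6), (210, [], 6), (213, [3], 6), (217, [], 6), (209, [], 6), (218, [], 6), (208, [], 6), (213, [6], 6)]),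
  (210, 5, [7, 6, 5, 4, 3, 1, 2, 0, 3, 2, 4, 3, 1, 5, 4, 3, 2, 0, 6, 5, 4, 3, 1, 2, 3, 4, 5, 6, 7, 6, 5, 4, 3, 1, 2, 0, 3, 2, 4, 3, 5, 4, 6, 5], [0, 1, 0, 0, 0, -1, 0, 0], [(214, [1], 5), (218, [], 5), (214, [3], 5), (214, [2], 5), (214, [0], 5), (210, [], 5), (214, [5], 5), (214, [6], 5)]),
  (211, 2, [7, 6, 5, 4, 3, 1, 2, 0, 3, 2, 4, 3, 1, 5, 4, 3, 2, 0, 6, 5, 4, 3, 1, 2, 3, 4, 5, 7, 6, 5, 4, 3, 1, 2, 0, 3, 2, 4, 3, 1, 5, 4, 3, 2], [1, 0, -1, 0, 0, 0, 0, 1], [(219, [], 2), (215, [2], 2), (211, [], 2), (215, [3], 2), (215, [4], 2), (215, [5], 2), (215, [6], 2), (216, [], 2)]),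
  (212, 2, [7, 6, 5, 4, 3, 1, 2, 0, 3, 2, 4, 3, 1, 5, 4, 3, 2, 0, 6, 5, 4, 3, 1, 2, 3, 4, 5, 6, 7, 6, 5, 4, 3, 1, 2, 0, 3, 2, 4, 3, 1, 5, 4, 3, 2], [1, 0, -1, 0, 0, 0, 1, -1], [(220, [], 2), (216, [2], 2), (212, [], 2), (216, [3], 2), (216, [4], 2), (216, [5], 2), (221, [], 2), (215, [], 2)]),
  (212, 6, [7, 6, 5, 4, 3, 1, 2, 0, 3, 2, 4, 3, 1, 5, 4, 3, 2, 0, 6, 5, 4, 3, 1, 2, 3, 4, 5, 6, 7, 6, 5, 4, 3, 1, 2, 0, 3, 2, 4, 3, 1, 5, 4, 3, 6], [0, 0, 1, -1, 0, 1, -1, 0], [(217, [1], 6), (217, [2], 6), (221, [], 6), (213, [], 6), (217, [4], 6), (222, [], 6), (212, [], 6), (217, [6], 6)]),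
  (213, 5, [7, 6, 5, 4, 3, 1, 2, 0, 3, 2, 4, 3, 1, 5, 4, 3, 2, 0, 6, 5, 4, 3, 1, 2, 3, 4, 5, 6, 7, 6, 5, 4, 3, 1, 2, 0, 3, 2, 4, 3, 1, 5, 4, 6, 5], [0, -1, 0, 1, 0, -1, 0, 0], [(218, [1], 5), (214, [], 5), (218, [3], 5), (222, [], 5), (218, [0], 5), (213, [], 5), (218, [5], 5), (218, [6], 5)]),
  (215, 0, [7, 6, 5, 4, 3, 1, 2, 0, 3, 2, 4, 3, 1, 5, 4, 3, 2, 0, 6, 5, 4, 3, 1, 2, 3, 4, 5, 7, 6, 5, 4, 3, 1, 2, 0, 3, 2, 4, 3, 1, 5, 4, 3, 2, 0], [-1, 0, 0, 0, 0, 0, 0, 1], [(215, [], 0), (219, [2], 0), (219, [1], 0), (219, [3], 0), (219, [4], 0), (219, [5], 0), (219, [6], 0), (220, [], 0)])]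

/-- Part 22 of `table8`. -/
def table8Part22 : List (Node 8) := [
  (216, 0, [7, 6, 5, 4, 3, 1, 2, 0, 3, 2, 4, 3, 1, 5, 4, 3, 2, 0, 6, 5, 4, 3, 1, 2, 3, 4, 5, 6, 7, 6, 5, 4, 3, 1, 2, 0, 3, 2, 4, 3, 1, 5, 4, 3, 2, 0], [-1, 0, 0, 0, 0, 0, 1, -1], [(216, [], 0), (220, [2], 0), (220, [1], 0), (220, [3], 0), (220, [4], 0), (220, [5], 0), (223, [], 0), (219, [], 0)]),
  (216, 6, [7, 6, 5, 4, 3, 1, 2, 0, 3, 2, 4, 3, 1, 5, 4, 3, 2, 0, 6, 5, 4, 3, 1, 2, 3, 4, 5, 6, 7, 6, 5, 4, 3, 1, 2, 0, 3, 2, 4, 3, 1, 5, 4, 3, 2, 6], [1, 0, -1, 0, 0, 1, -1, 0], [(223, [], 6), (221, [2], 6), (217, [], 6), (221, [3], 6), (221, [4], 6), (224, [], 6), (216, [], 6), (221, [6], 6)]),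
  (217, 5, [7, 6, 5, 4, 3, 1, 2, 0, 3, 2, 4, 3, 1, 5, 4, 3, 2, 0, 6, 5, 4, 3, 1, 2, 3, 4, 5, 6, 7, 6, 5, 4, 3, 1, 2, 0, 3, 2, 4, 3, 1, 5, 4, 3, 6, 5], [0, 0, 1, -1, 1, -1, 0, 0], [(222, [1], 5), (222, [2], 5), (224, [], 5), (218, [], 5), (225, [], 5), (217, [], 5), (222, [5], 5), (222, [6], 5)]),
  (220, 6, [7, 6, 5, 4, 3, 1, 2, 0, 3, 2, 4, 3, 1, 5, 4, 3, 2, 0, 6, 5, 4, 3, 1, 2, 3, 4, 5, 6, 7, 6, 5, 4, 3, 1, 2, 0, 3, 2, 4, 3, 1, 5, 4, 3, 2, 0, 6], [-1, 0, 0, 0, 0, 1, -1, 0], [(221, [], 6), (223, [2], 6), (223, [1], 6), (223, [3], 6), (223, [4], 6), (226, [], 6), (220, [], 6), (223, [6], 6)]),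
  (221, 5, [7, 6, 5, 4, 3, 1, 2, 0, 3, 2, 4, 3, 1, 5, 4, 3, 2, 0, 6, 5, 4, 3, 1, 2, 3, 4, 5, 6, 7, 6, 5, 4, 3, 1, 2, 0, 3, 2, 4, 3, 1, 5, 4, 3, 2, 6, 5], [1, 0, -1, 0, 1, -1, 0, 0], [(226, [], 5), (224, [2], 5), (222, [], 5), (224, [3], 5), (227, [], 5), (221, [], 5), (224, [5], 5), (224, [6], 5)]),
  (222, 4, [7, 6, 5, 4, 3, 1, 2, 0, 3, 2, 4, 3, 1, 5, 4, 3, 2, 0, 6, 5, 4, 3, 1, 2, 3, 4, 5, 6, 7, 6, 5, 4, 3, 1, 2, 0, 3, 2, 4, 3, 1, 5, 4, 3, 6, 5, 4], [0, 0, 1, 0, -1, 0, 0, 0], [(225, [1], 4), (225, [2], 4), (227, [], 4), (225, [0], 4), (222, [], 4), (225, [4], 4), (225, [5], 4), (225, [6], 4)]),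
  (223, 5, [7, 6, 5, 4, 3, 1, 2, 0, 3, 2, 4, 3, 1, 5, 4, 3, 2, 0, 6, 5, 4, 3, 1, 2, 3, 4, 5, 6, 7, 6, 5, 4, 3, 1, 2, 0, 3, 2, 4, 3, 1, 5, 4, 3, 2, 0, 6, 5], [-1, 0, 0, 0, 1, -1, 0, 0], [(224, [], 5), (226, [2], 5), (226, [1], 5), (226, [3], 5), (228, [], 5), (223, [], 5), (226, [5], 5), (226, [6], 5)]),
  (224, 4, [7, 6, 5, 4, 3, 1, 2, 0, 3, 2, 4, 3, 1, 5, 4, 3, 2, 0, 6, 5, 4, 3, 1, 2, 3, 4, 5, 6, 7, 6, 5, 4, 3, 1, 2, 0, 3, 2, 4, 3, 1, 5, 4, 3, 2, 6, 5, 4], [1, 0, -1, 1, -1, 0, 0, 0], [(228, [], 4), (227, [2], 4), (225, [], 4), (229, [], 4), (224, [], 4), (227, [4], 4), (227, [5], 4), (227, [6], 4)]),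
  (226, 4, [7, 6, 5, 4, 3, 1, 2, 0, 3, 2, 4, 3, 1, 5, 4, 3, 2, 0, 6, 5, 4, 3, 1, 2, 3, 4, 5, 6, 7, 6, 5, 4, 3, 1, 2, 0, 3, 2, 4, 3, 1, 5, 4, 3, 2, 0, 6, 5, 4], [-1, 0, 0, 1, -1, 0, 0, 0], [(227, [], 4), (228, [2], 4), (228, [1], 4), (230, [], 4), (226, [], 4), (228, [4], 4), (228, [5], 4), (228, [6], 4)]),
  (227, 3, [7, 6, 5, 4, 3, 1, 2, 0, 3, 2, 4, 3, 1, 5, 4, 3, 2, 0, 6, 5, 4, 3, 1, 2, 3, 4, 5, 6, 7, 6, 5, 4, 3, 1, 2, 0, 3, 2, 4, 3, 1, 5, 4, 3, 2, 6, 5, 4, 3], [1, 1, 0, -1, 0, 0, 0, 0], [(230, [], 3), (231, [], 3), (229, [0], 3), (227, [], 3), (229, [3], 3), (229, [4], 3), (229, [5], 3), (229, [6], 3)])]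

/-- Part 23 of `table8`. -/
def table8Part23 : List (Node 8) := [
  (228, 3, [7, 6, 5, 4, 3, 1, 2, 0, 3, 2, 4, 3, 1, 5, 4, 3, 2, 0, 6, 5, 4, 3, 1, 2, 3, 4, 5, 6, 7, 6, 5, 4, 3, 1, 2, 0, 3, 2, 4, 3, 1, 5, 4, 3, 2, 0, 6, 5, 4, 3], [-1, 1, 1, -1, 0, 0, 0, 0], [(229, [], 3), (232, [], 3), (233, [], 3), (228, [], 3), (230, [3], 3), (230, [4], 3), (230, [5], 3), (230, [6], 3)]),
  (229, 1, [7, 6, 5, 4, 3, 1, 2, 0, 3, 2, 4, 3, 1, 5, 4, 3, 2, 0, 6, 5, 4, 3, 1, 2, 3, 4, 5, 6, 7, 6, 5, 4, 3, 1, 2, 0, 3, 2, 4, 3, 1, 5, 4, 3, 2, 6, 5, 4, 3, 1], [1, -1, 0, 0, 0, 0, 0, 0], [(232, [], 1), (229, [], 1), (231, [0], 1), (231, [2], 1), (231, [3], 1), (231, [4], 1), (231, [5], 1), (231, [6], 1)]),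
  (230, 1, [7, 6, 5, 4, 3, 1, 2, 0, 3, 2, 4, 3, 1, 5, 4, 3, 2, 0, 6, 5, 4, 3, 1, 2, 3, 4, 5, 6, 7, 6, 5, 4, 3, 1, 2, 0, 3, 2, 4, 3, 1, 5, 4, 3, 2, 0, 6, 5, 4, 3, 1], [-1, -1, 1, 0, 0, 0, 0, 0], [(231, [], 1), (230, [], 1), (234, [], 1), (232, [2], 1), (232, [3], 1), (232, [4], 1), (232, [5], 1), (232, [6], 1)]),
  (230, 2, [7, 6, 5, 4, 3, 1, 2, 0, 3, 2, 4, 3, 1, 5, 4, 3, 2, 0, 6, 5, 4, 3, 1, 2, 3, 4, 5, 6, 7, 6, 5, 4, 3, 1, 2, 0, 3, 2, 4, 3, 1, 5, 4, 3, 2, 0, 6, 5, 4, 3, 2], [0, 1, -1, 0, 0, 0, 0, 0], [(233, [0], 2), (234, [], 2), (230, [], 2), (233, [1], 2), (233, [3], 2), (233, [4], 2), (233, [5], 2), (233, [6], 2)]),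
  (232, 2, [7, 6, 5, 4, 3, 1, 2, 0, 3, 2, 4, 3, 1, 5, 4, 3, 2, 0, 6, 5, 4, 3, 1, 2, 3, 4, 5, 6, 7, 6, 5, 4, 3, 1, 2, 0, 3, 2, 4, 3, 1, 5, 4, 3, 2, 0, 6, 5, 4, 3, 1, 2], [0, -1, -1, 1, 0, 0, 0, 0], [(234, [0], 2), (233, [], 2), (232, [], 2), (235, [], 2), (234, [3], 2), (234, [4], 2), (234, [5], 2), (234, [6], 2)]),
  (234, 3, [7, 6, 5, 4, 3, 1, 2, 0, 3, 2, 4, 3, 1, 5, 4, 3, 2, 0, 6, 5, 4, 3, 1, 2, 3, 4, 5, 6, 7, 6, 5, 4, 3, 1, 2, 0, 3, 2, 4, 3, 1, 5, 4, 3, 2, 0, 6, 5, 4, 3, 1, 2, 3], [0, 0, 0, -1, 1, 0, 0, 0], [(235, [0], 3), (235, [1], 3), (235, [2], 3), (234, [], 3), (236, [], 3), (235, [4], 3), (235, [5], 3), (235, [6], 3)]),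
  (235, 4, [7, 6, 5, 4, 3, 1, 2, 0, 3, 2, 4, 3, 1, 5, 4, 3, 2, 0, 6, 5, 4, 3, 1, 2, 3, 4, 5, 6, 7, 6, 5, 4, 3, 1, 2, 0, 3, 2, 4, 3, 1, 5, 4, 3, 2, 0, 6, 5, 4, 3, 1, 2, 3, 4], [0, 0, 0, 0, -1, 1, 0, 0], [(236, [0], 4), (236, [1], 4), (236, [2], 4), (236, [3], 4), (235, [], 4), (237, [], 4), (236, [5], 4), (236, [6], 4)]),
  (236, 5, [7, 6, 5, 4, 3, 1, 2, 0, 3, 2, 4, 3, 1, 5, 4, 3, 2, 0, 6, 5, 4, 3, 1, 2, 3, 4, 5, 6, 7, 6, 5, 4, 3, 1, 2, 0, 3, 2, 4, 3, 1, 5, 4, 3, 2, 0, 6, 5, 4, 3, 1, 2, 3, 4, 5], [0, 0, 0, 0, 0, -1, 1, 0], [(237, [0], 5), (237, [1], 5), (237, [2], 5), (237, [3], 5), (237, [4], 5), (236, [], 5), (238, [], 5), (237, [6], 5)]),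
  (237, 6, [7, 6, 5, 4, 3, 1, 2, 0, 3, 2, 4, 3, 1, 5, 4, 3, 2, 0, 6, 5, 4, 3, 1, 2, 3, 4, 5, 6, 7, 6, 5, 4, 3, 1, 2, 0, 3, 2, 4, 3, 1, 5, 4, 3, 2, 0, 6, 5, 4, 3, 1, 2, 3, 4, 5, 6], [0, 0, 0, 0, 0, 0, -1, 1], [(238, [0], 6), (238, [1], 6), (238, [2], 6), (238, [3], 6), (238, [4], 6), (238, [5], 6), (237, [], 6), (239, [], 6)]),
  (238, 7, [7, 6, 5, 4, 3, 1, 2, 0, 3, 2, 4, 3, 1, 5, 4, 3, 2, 0, 6, 5, 4, 3, 1, 2, 3, 4, 5, 6, 7, 6, 5, 4, 3, 1, 2, 0, 3, 2, 4, 3, 1, 5, 4, 3, 2, 0, 6, 5, 4, 3, 1, 2, 3, 4, 5, 6, 7], [0, 0, 0, 0, 0, 0, 0, -1], [(239, [0], 7), (239, [1], 7), (239, [2], 7), (239, [3], 7), (239, [4], 7), (239, [5], 7), (239, [6], 7), (238, [], 7)])]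

/-- Cosets of the parabolic subgroup of the first 7 nodes in that of the first 8. -/
def table8 : List (Node 8) := List.flatten [table8Part0, table8Part1, table8Part2, table8Part3, table8Part4, table8Part5, table8Part6, table8Part7, table8Part8, table8Part9, table8Part10, table8Part11, table8Part12, table8Part13, table8Part14, table8Part15, table8Part16, table8Part17, table8Part18, table8Part19, table8Part20, table8Part21, table8Part22, table8Part23]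

theorem table8_cosetTest : cosetTest table8 CoxeterMatrix.E₈ [0, 1, 2, 3, 4, 5, 6, 7] [0, 1, 2, 3, 4, 5, 6] = true := by
  decide +kernel

theorem table8_vecTest : vecTest cartan table8 [0, 1, 2, 3, 4, 5, 6] = true := by
  decide +kernel

/-- The Weyl group of type E8 has order 696729600 and its reflection representation is faithful. -/
theorem card_and_faithful : Finite CoxeterMatrix.E₈.Group ∧ Nat.card CoxeterMatrix.E₈.Group = 696729600 ∧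
    Function.Injective (rep cartan_repTest) := by
  have h0 := chainOK_nil cartan_repTest
  have h1 := chainOK_step h0 table1_cosetTest table1_vecTest
  have h2 := chainOK_step h1 table2_cosetTest table2_vecTest
  have h3 := chainOK_step h2 table3_cosetTest table3_vecTest
  have h4 := chainOK_step h3 table4_cosetTest table4_vecTest
  have h5 := chainOK_step h4 table5_cosetTest table5_vecTest
  have h6 := chainOK_step h5 table6_cosetTest table6_vecTest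
  have h7 := chainOK_step h6 table7_cosetTest table7_vecTest
  have h8 := chainOK_step h7 table8_cosetTest table8_vecTest
  have he : table8.length * (table7.length * (table6.length * (table5.length * (table4.length * (table3.length * (table2.length * (table1.length * (1)))))))) = 696729600 := by decide +kernel
  rw [he] at h8
  exact chainOK_top h8 (by decide)

end CfsgLib.Weyl.E8
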