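import Mathlib.GroupTheory.Coxeter.Basic
import Mathlib.SetTheory.Cardinal.Finite
import Mathlib.Algebra.Group.End
import Mathlib.GroupTheory.OrderOfElement
import Mathlib.Data.Int.Basic
import Mathlib.Tactic.Ring

/-!
Checkable certificates for orders of finite Coxeter groups: one table per step of a chain of
parabolic subgroups gives an upper bound for the order, and the orbit of a weight in the integral
reflection representation gives the same number as a lower bound, so the representation is
faithful.
-/

set_option autoImplicit false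

namespace CfsgLib.Weyl

variable {n : ℕ}

/-- The product in the Coxeter group of a word in the simple reflections. -/
def wp (M : CoxeterMatrix (Fin n)) (l : List (Fin n)) : M.Group := (l.map M.simple).prod

/-- The subgroup generated by the simple reflections in `J`. -/
def par (M : CoxeterMatrix (Fin n)) (J : List (Fin n)) : Subgroup M.Group :=
  Subgroup.closure {g | ∃ j ∈ J, g = M.simple j}

/-- A node of a table of cosets of a parabolic subgroup: parent, last letter, word of the
representative, the weight vector, and for each generator the target node, the letter picked up in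
the subgroup and the second letter of the braid relation used to prove it. -/
abbrev Node (n : ℕ) :=
  ℕ × Fin n × List (Fin n) × List ℤ × List (ℕ × List (Fin n) × Fin n)

section
variable [NeZero n] (T : List (Node n))

/-- The node number `k`. -/
def node (k : ℕ) : Node n := T.getD k (0, 0, [], [], [])
/-- The parent of node `k`. -/
def par0 (k : ℕ) : ℕ := (node T k).1
/-- The last letter of the representative of node `k`. -/
def let0 (k : ℕ) : Fin n := (node T k).2.1
/-- The word of node `k`. -/
def word (k : ℕ) : List (Fin n) := (node T k).2.2.1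
/-- The vector of node `k`. -/
def vec (k : ℕ) : List ℤ := (node T k).2.2.2.1
/-- The table entry at node `k` and letter `i`. -/
def entry (k : ℕ) (i : Fin n) : ℕ × List (Fin n) × Fin n :=
  (node T k).2.2.2.2.getD i.val (0, [], 0)

/-- One step of a walk through edges that are known when node `k` is being established. -/
def step (J : List (Fin n)) (k : ℕ) (st : Option (ℕ × List (Fin n))) (l : Fin n) :
    Option (ℕ × List (Fin n)) :=
  st.bind fun ah =>
    let b := (entry T ah.1 l).1
    if l ∈ J ∧ ((ah.1 < k ∧ b < k) ∨
      (l = let0 T k ∧ ((ah.1 = k ∧ b = par0 T k) ∨ (ah.1 = par0 T k ∧ b = k))))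
    then some (b, ah.2 ++ (entry T ah.1 l).2.1) else none

/-- The word `(t i) ^ (m - 1) t`, equal to the simple reflection `i` when `m` is the order of
`i t`. -/
def altWord (t i : Fin n) : ℕ → List (Fin n)
  | 0 => [t]
  | m + 1 => t :: i :: altWord t i m

/-- The test for one edge. -/
def edgeTest (M : CoxeterMatrix (Fin n)) (J J' : List (Fin n)) (k : ℕ) (i : Fin n) : Bool :=
  let e := entry T k i
  decide (e.1 < T.length) && decide (∀ x ∈ e.2.1, x ∈ J') &&
  (if k < e.1 then decide (e.2.1 = [] ∧ (entry T e.1 i).1 = k ∧ (entry T e.1 i).2.1 = [])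
   else if k = 0 then decide (e.1 = 0 ∧ e.2.1 = [i])
   else if i = let0 T k then decide (e.1 = par0 T k ∧ e.2.1 = [])
   else decide (e.2.2 ∈ J ∧ 0 < M i e.2.2 ∧
      (altWord e.2.2 i (M i e.2.2 - 1)).foldl (step T J k) (some (k, [])) = some (e.1, e.2.1)))

/-- The test for the coset table of `J'` in `J`. -/
def cosetTest (M : CoxeterMatrix (Fin n)) (J J' : List (Fin n)) : Bool :=
  decide (0 < T.length ∧ word T 0 = [] ∧ ∀ x ∈ J', x ∈ J) &&
  (List.range T.length).all (fun k => decide (k = 0 ∨ (par0 T k < k ∧ let0 T k ∈ J ∧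
      word T k = word T (par0 T k) ++ [let0 T k] ∧
      entry T (par0 T k) (let0 T k) =
        (k, [], (entry T (par0 T k) (let0 T k)).2.2))) &&
    J.all (fun i => edgeTest T M J J' k i))

variable {T} {M : CoxeterMatrix (Fin n)} {J J' : List (Fin n)}

theorem simple_sq (i : Fin n) : M.simple i * M.simple i = 1 :=
  M.toCoxeterSystem.simple_mul_simple_self i

theorem simple_pow (i t : Fin n) : (M.simple i * M.simple t) ^ M i t = 1 :=
  M.toCoxeterSystem.simple_mul_simple_pow i t

theorem wp_append (a b : List (Fin n)) : wp M (a ++ b) = wp M a * wp M b := by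
  simp [wp]

theorem wp_cons (a : Fin n) (b : List (Fin n)) : wp M (a :: b) = M.simple a * wp M b := by
  simp [wp]

theorem wp_nil : wp M [] = 1 := rfl

theorem wp_altWord (t i : Fin n) (m : ℕ) (hm : (M.simple i * M.simple t) ^ (m + 1) = 1) :
    wp M (altWord t i m) = M.simple i := by
  have h : ∀ m, M.simple i * wp M (altWord t i m) = (M.simple i * M.simple t) ^ (m + 1) := by
    intro m
    induction m with
    | zero => simp [altWord, wp]
    | succ m ih =>
      rw [altWord, wp_cons, wp_cons, pow_succ' _ (m + 1), ← ih, mul_assoc]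
  have h' := h m
  rw [hm] at h'
  calc wp M (altWord t i m) = (M.simple i * M.simple i) * wp M (altWord t i m) := by
        rw [simple_sq, one_mul]
    _ = M.simple i * (M.simple i * wp M (altWord t i m)) := mul_assoc _ _ _
    _ = M.simple i := by rw [h', mul_one]

theorem wp_mem_par {l : List (Fin n)} (hl : ∀ x ∈ l, x ∈ J') : wp M l ∈ par M J' := by
  refine Subgroup.list_prod_mem _ fun g hg => ?_
  obtain ⟨x, hx, rfl⟩ := List.mem_map.mp hg
  exact Subgroup.subset_closure ⟨x, hl x hx, rfl⟩

theorem par_nil : par M [] = ⊥ := by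
  simp [par]

/-- The equation asserted by the table entry at `(k, i)`. -/
def EdgeEq (T : List (Node n)) (M : CoxeterMatrix (Fin n)) (k : ℕ) (i : Fin n) : Prop :=
  wp M (word T k) * M.simple i = wp M (entry T k i).2.1 * wp M (word T (entry T k i).1)

section
variable (h : cosetTest T M J J' = true)
include h

theorem cosetTest_base : 0 < T.length ∧ word T 0 = [] ∧ ∀ x ∈ J', x ∈ J := by
  simp only [cosetTest, Bool.and_eq_true, decide_eq_true_eq] at h
  exact h.1

theorem cosetTest_tree (k : ℕ) (hk : k < T.length) (h0 : k ≠ 0) :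
    par0 T k < k ∧ let0 T k ∈ J ∧ word T k = word T (par0 T k) ++ [let0 T k] ∧
      (entry T (par0 T k) (let0 T k)).1 = k ∧ (entry T (par0 T k) (let0 T k)).2.1 = [] := by
  simp only [cosetTest, Bool.and_eq_true, decide_eq_true_eq, List.all_eq_true, List.mem_range] at h
  obtain ⟨a, b, c, d⟩ := ((h.2 k hk).1).resolve_left h0
  exact ⟨a, b, c, by rw [d], by rw [d]⟩

theorem cosetTest_edge (k : ℕ) (hk : k < T.length) (i : Fin n) (hi : i ∈ J) :
    edgeTest T M J J' k i = true := by
  simp only [cosetTest, Bool.and_eq_true, decide_eq_true_eq, List.all_eq_true, List.mem_range] at h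
  exact (h.2 k hk).2 i hi

theorem edge_up (k : ℕ) (hk : k < T.length) (i : Fin n) (hi : i ∈ J)
    (hup : k < (entry T k i).1) (ih : EdgeEq T M (entry T k i).1 i) : EdgeEq T M k i := by
  have he := cosetTest_edge h k hk i hi
  simp only [edgeTest, if_pos hup, Bool.and_eq_true, decide_eq_true_eq] at he
  obtain ⟨-, h1, h2, h3⟩ := he
  unfold EdgeEq at ih ⊢
  rw [h2, h3, wp_nil, one_mul] at ih
  rw [h1, wp_nil, one_mul, ← ih, mul_assoc, simple_sq, mul_one]

theorem edge_down (k : ℕ) (hk : k < T.length) :
    ∀ i ∈ J, (entry T k i).1 ≤ k → EdgeEq T M k i := by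
  induction k using Nat.strong_induction_on with
  | _ k ih =>
  intro i hi hdn
  have he := cosetTest_edge h k hk i hi
  simp only [edgeTest, if_neg (not_lt.mpr hdn), Bool.and_eq_true, decide_eq_true_eq] at he
  obtain ⟨⟨hlt, -⟩, he⟩ := he
  by_cases hk0 : k = 0
  · rw [if_pos hk0, decide_eq_true_eq] at he
    unfold EdgeEq
    rw [he.1, he.2, hk0, (cosetTest_base h).2.1]
    simp [wp]
  rw [if_neg hk0] at he
  obtain ⟨hpk, hg, hw, hpe, hpn⟩ := cosetTest_tree h k hk hk0
  have hwk : wp M (word T k) = wp M (word T (par0 T k)) * M.simple (let0 T k) := by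
    rw [hw, wp_append]; simp [wp]
  by_cases hig : i = let0 T k
  · rw [if_pos hig, decide_eq_true_eq] at he
    unfold EdgeEq
    rw [he.1, he.2, wp_nil, one_mul, hig, hwk, mul_assoc, simple_sq, mul_one]
  rw [if_neg hig, decide_eq_true_eq] at he
  obtain ⟨ht, hm, hwalk⟩ := he
  generalize hte : (entry T k i).2.2 = t at ht hm hwalk
  have hstep : ∀ (a : ℕ) (hw0 : List (Fin n)) (l : Fin n) (r : ℕ × List (Fin n)),
      step T J k (some (a, hw0)) l = some r →
      wp M r.2 * wp M (word T r.1) = wp M hw0 * wp M (word T a) * M.simple l := by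
    intro a hw0 l r hr
    simp only [step, Option.bind_some] at hr
    split_ifs at hr with hc
    simp only [Option.some.injEq] at hr
    subst hr
    obtain ⟨hlJ, hc⟩ := hc
    have hE : EdgeEq T M a l := by
      rcases hc with ⟨ha, hb⟩ | ⟨rfl, ⟨rfl, hb⟩ | ⟨rfl, hb⟩⟩
      · by_cases hab : (entry T a l).1 ≤ a
        · exact ih a ha (ha.trans hk) l hlJ hab
        · refine edge_up h a (ha.trans hk) l hlJ (not_le.mp hab) ?_
          refine ih _ hb (hb.trans hk) l hlJ ?_
          have he' := cosetTest_edge h a (ha.trans hk) l hlJ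
          simp only [edgeTest, if_pos (not_le.mp hab), Bool.and_eq_true, decide_eq_true_eq] at he'
          rw [he'.2.2.1]
          exact (not_le.mp hab).le
      · unfold EdgeEq
        have he' := cosetTest_edge h a hk (let0 T a) hlJ
        simp only [edgeTest, hb, if_neg (not_lt.mpr hpk.le), if_neg hk0, if_true,
          Bool.and_eq_true, decide_eq_true_eq] at he'
        rw [hb, he'.2.2, wp_nil, one_mul, hwk, mul_assoc, simple_sq, mul_one]
      · unfold EdgeEq
        rw [hpe, hpn, wp_nil, one_mul, hwk]
    unfold EdgeEq at hE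
    simp only [wp_append, mul_assoc]
    rw [hE]
  have hfold : ∀ (ls : List (Fin n)) (a : ℕ) (hw0 : List (Fin n)) (r : ℕ × List (Fin n)),
      ls.foldl (step T J k) (some (a, hw0)) = some r →
      wp M r.2 * wp M (word T r.1) = wp M hw0 * wp M (word T a) * wp M ls := by
    intro ls
    induction ls with
    | nil =>
      intro a hw0 r hr
      simp only [List.foldl_nil, Option.some.injEq] at hr
      subst hr
      simp [wp]
    | cons l ls ihl =>
      intro a hw0 r hr
      rw [List.foldl_cons] at hr
      cases hs : step T J k (some (a, hw0)) l with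
      | none =>
        rw [hs] at hr
        have : ∀ ls : List (Fin n), ls.foldl (step T J k) none = none := by
          intro ls; induction ls with
          | nil => rfl
          | cons x xs ihx => rw [List.foldl_cons]; exact ihx
        rw [this] at hr
        simp at hr
      | some s =>
        rw [hs] at hr
        obtain ⟨b, hb⟩ := s
        rw [ihl b hb r hr, hstep a hw0 l (b, hb) hs]
        simp only [wp_cons, mul_assoc]
  have hfin := hfold _ _ _ _ hwalk
  have hpow : (M.simple i * M.simple t) ^ ((M i t - 1) + 1) = 1 := by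
    rw [Nat.sub_add_cancel hm]; exact simple_pow i t
  rw [wp_altWord t i _ hpow, wp_nil, one_mul] at hfin
  exact hfin.symm

theorem edge_eq (k : ℕ) (hk : k < T.length) (i : Fin n) (hi : i ∈ J) : EdgeEq T M k i := by
  by_cases hd : (entry T k i).1 ≤ k
  · exact edge_down h k hk i hi hd
  · have hup := not_le.mp hd
    have he := cosetTest_edge h k hk i hi
    simp only [edgeTest, if_pos hup, Bool.and_eq_true, decide_eq_true_eq] at he
    refine edge_up h k hk i hi hup (edge_down h _ he.1.1 i hi ?_)
    rw [he.2.2.1]
    exact hup.le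

theorem mem_cosets {w : M.Group} (hw : w ∈ par M J) :
    ∃ k < T.length, ∃ u ∈ par M J', w = u * wp M (word T k) := by
  have hmul : ∀ i ∈ J, ∀ w : M.Group, (∃ k < T.length, ∃ u ∈ par M J', w = u * wp M (word T k)) →
      ∃ k < T.length, ∃ u ∈ par M J', w * M.simple i = u * wp M (word T k) := by
    rintro i hi w ⟨k, hk, u, hu, rfl⟩
    have he := cosetTest_edge h k hk i hi
    simp only [edgeTest, Bool.and_eq_true, decide_eq_true_eq] at he
    exact ⟨_, he.1.1, u * wp M (entry T k i).2.1, mul_mem hu (wp_mem_par he.1.2),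
      by rw [mul_assoc, edge_eq h k hk i hi, mul_assoc]⟩
  refine Subgroup.closure_induction_right (p := fun g _ => ∃ k < T.length, ∃ u ∈ par M J',
    g = u * wp M (word T k)) ⟨0, (cosetTest_base h).1, 1, one_mem _, by
      rw [(cosetTest_base h).2.1, wp_nil, one_mul]⟩ ?_ ?_ hw
  · rintro g _ y ⟨i, hi, rfl⟩ hg
    exact hmul i hi g hg
  · rintro g _ y ⟨i, hi, rfl⟩ hg
    have : (M.simple i)⁻¹ = M.simple i := M.toCoxeterSystem.inv_simple i
    rw [this]
    exact hmul i hi g hg

theorem finite_card_par (N : ℕ) (hfin : Finite (par M J')) (hN : Nat.card (par M J') ≤ N) :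
    Finite (par M J) ∧ Nat.card (par M J) ≤ T.length * N := by
  have hle : par M J' ≤ par M J :=
    Subgroup.closure_mono fun g ⟨j, hj, e⟩ => ⟨j, (cosetTest_base h).2.2 j hj, e⟩
  have hw : ∀ k < T.length, wp M (word T k) ∈ par M J := by
    intro k
    induction k using Nat.strong_induction_on with
    | _ k ih =>
      intro hk
      by_cases h0 : k = 0
      · rw [h0, (cosetTest_base h).2.1, wp_nil]; exact one_mem _
      · obtain ⟨hp, hg, hwd, -, -⟩ := cosetTest_tree h k hk h0
        rw [hwd, wp_append]
        refine mul_mem (ih _ hp (hp.trans hk)) (wp_mem_par ?_)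
        simpa using hg
  let f : Fin T.length × par M J' → par M J :=
    fun p => ⟨p.2.1 * wp M (word T p.1.1), mul_mem (hle p.2.2) (hw _ p.1.2)⟩
  have hs : Function.Surjective f := by
    rintro ⟨g, hg⟩
    obtain ⟨k, hk, u, hu, rfl⟩ := mem_cosets h hg
    exact ⟨(⟨k, hk⟩, ⟨u, hu⟩), rfl⟩
  have := Finite.of_surjective f hs
  refine ⟨this, (Nat.card_le_card_of_surjective f hs).trans ?_⟩
  rw [Nat.card_prod, Nat.card_eq_fintype_card, Fintype.card_fin]
  exact Nat.mul_le_mul_left _ hN

end

end

end CfsgLib.Weyl
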